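import Cfsg.Agent.MaxSub.Orth
import Cfsg.Agent.Lib.Forms.Sesq

set_option autoImplicit false
open Cfsg

namespace Cfsg.Agent.SpGeo11.Decomp

section Helpers

open Matrix Cfsg.Agent.MaxSub

variable {ι : Type} [Fintype ι] [DecidableEq ι] {F : Type*} [Field F]
variable {f : (ι → F) → (ι → F) → F} {t k : ℕ} {D : Fin t → Submodule F (ι → F)}

theorem exists_components (hD : Geo.IsMDecomposition k D) (x : ι → F) :
    ∃ c : Fin t → (ι → F), (∀ i, c i ∈ D i) ∧ x = ∑ i, c i := by
  have hx : x ∈ iSup D := hD.iSup_eq_top ▸ Submodule.mem_top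
  induction hx using Submodule.iSup_induction' with
  | mem i y hy =>
    refine ⟨Pi.single i y, fun j => ?_, by simp⟩
    rcases eq_or_ne j i with rfl | h <;> simp [*]
  | zero => exact ⟨0, fun i => (D i).zero_mem, by simp⟩
  | add y z _ _ hy hz =>
    obtain ⟨c, hc, rfl⟩ := hy
    obtain ⟨d, hd, rfl⟩ := hz
    exact ⟨c + d, fun i => (D i).add_mem (hc i) (hd i), by simp [Finset.sum_add_distrib]⟩

variable (hf : Geo.IsSymplecticForm f) (hD : Geo.IsNondegenerateMDecomposition f k D)
include hf hD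

theorem orth_zero {i j : Fin t} (h : i ≠ j) {x y : ι → F} (hx : x ∈ D i) (hy : y ∈ D j) :
    f x y = 0 := hD.orthogonal i j h x hx y hy

theorem form_sum_left {σ : Finset (Fin t)} {c : Fin t → (ι → F)} (hc : ∀ i, c i ∈ D i) {j : Fin t}
    {w : ι → F} (hw : w ∈ D j) :
    f (∑ i ∈ σ, c i) w = if j ∈ σ then f (c j) w else 0 := by
  rw [← lmap_apply hf.bilinear, map_sum]
  simp only [lmap_apply]
  rw [← Finset.sum_ite_eq' σ j (fun i => f (c i) w)]
  refine Finset.sum_congr rfl fun i _ => ?_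
  split_ifs with h
  · rfl
  · exact orth_zero hf hD h (hc i) hw

theorem exists_ne_zero (i : Fin t) : ∃ a ∈ D i, a ≠ 0 :=
  (D i).ne_bot_iff.mp fun h => by
    have := hD.decomp.finrank_eq i
    rw [h, finrank_bot] at this
    have := hD.decomp.pos
    omega

theorem eq_of_mem_of_mem {i j : Fin t} {x : ι → F} (hx : x ≠ 0) (hi : x ∈ D i) (hj : x ∈ D j) :
    i = j := by
  by_contra h
  obtain ⟨y, hy, hy'⟩ := (hD.nondegenerate i x hi hx).2
  exact hy' (orth_zero hf hD (Ne.symm h) hj hy)

/-- A subspace inside the union of the members lies in one of them. -/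
theorem exists_le {U : Submodule F (ι → F)} (h : ∀ x ∈ U, ∃ i, x ∈ D i) : ∃ i, U ≤ D i := by
  by_cases hU : U = ⊥
  · exact ⟨⟨0, by have := hD.decomp.two_le; omega⟩, hU ▸ bot_le⟩
  obtain ⟨x, hx, hx0⟩ := U.ne_bot_iff.mp hU
  obtain ⟨a, ha⟩ := h x hx
  refine ⟨a, fun y hy => ?_⟩
  obtain ⟨b, hb⟩ := h y hy
  rcases eq_or_ne b a with rfl | hba
  · exact hb
  obtain ⟨c, hc⟩ := h (x + y) (add_mem hx hy)
  obtain ⟨w, hw, hw'⟩ := (hD.nondegenerate a x ha hx0).2
  rcases eq_or_ne c a with rfl | hca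
  · simpa using sub_mem hc ha
  · have h1 := orth_zero hf hD hca hc hw
    rw [hf.bilinear.add_left, orth_zero hf hD hba hb hw, add_zero] at h1
    exact absurd h1 hw'

theorem mem_decompositionStabilizer [Finite F] {g : GL ι F}
    (h : ∀ i, ∃ j, (D i).map (Matrix.mulVecLin (g : Matrix ι ι F)) ≤ D j) :
    g ∈ Geo.decompositionStabilizer D := by
  choose σ hσ using h
  have heq : ∀ i, (D i).map (Matrix.mulVecLin (g : Matrix ι ι F)) = D (σ i) := fun i =>
    Submodule.eq_of_le_of_finrank_eq (hσ i) (by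
      rw [(Submodule.equivMapOfInjective _ (mulVec_injective g) _).symm.finrank_eq,
        hD.decomp.finrank_eq, hD.decomp.finrank_eq])
  have hinj : Function.Injective σ := fun i j hij => by
    obtain ⟨a, ha, ha0⟩ := exists_ne_zero hf hD i
    have h1 : (g : Matrix ι ι F) *ᵥ a ∈ (D j).map (Matrix.mulVecLin (g : Matrix ι ι F)) := by
      rw [heq j, ← hij]
      exact hσ i (Submodule.mem_map_of_mem ha)
    obtain ⟨b, hb, hb'⟩ := Submodule.mem_map.mp h1
    exact eq_of_mem_of_mem hf hD ha0 ha (mulVec_injective g hb' ▸ hb)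
  refine ⟨Equiv.ofBijective σ ((Fintype.bijective_iff_injective_and_card σ).mpr ⟨hinj, rfl⟩),
    fun i => ?_⟩
  rw [Equiv.ofBijective_apply, ← heq i, Matrix.toLin'_apply']

theorem st_mem_stab [Finite F] {i : Fin t} {v : ι → F} (hv : v ∈ D i) (c : F) :
    st f v c ∈ Geo.decompositionStabilizer D ⊓ isom f := by
  refine ⟨mem_decompositionStabilizer hf hD fun j => ⟨j, ?_⟩, st_mem_isom hf v c⟩
  rintro _ ⟨x, hx, rfl⟩
  rw [Matrix.mulVecLin_apply, st_mulVec hf]
  rcases eq_or_ne j i with rfl | hji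
  · exact add_mem hx ((D j).smul_mem _ hv)
  · rw [orth_zero hf hD hji hx hv, mul_zero, zero_smul, add_zero]; exact hx

/-- An isometry interchanging two members and fixing the others. -/
theorem exists_swap [Finite F] {i j : Fin t} (hij : i ≠ j) :
    ∃ g : GL ι F, g ∈ Geo.decompositionStabilizer D ⊓ isom f ∧
      (∀ l, l ≠ i → l ≠ j → ∀ x ∈ D l, (g : Matrix ι ι F) *ᵥ x = x) ∧
      (∀ x ∈ D i, (g : Matrix ι ι F) *ᵥ x ∈ D j) ∧ (∀ x ∈ D j, (g : Matrix ι ι F) *ᵥ x ∈ D i) ∧
      ∀ x, (g : Matrix ι ι F) *ᵥ ((g : Matrix ι ι F) *ᵥ x) = x := by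
  classical
  let B : LinearMap.BilinForm F (ι → F) :=
    LinearMap.mk₂ F f hf.bilinear.add_left hf.bilinear.smul_left hf.bilinear.add_right
      hf.bilinear.smul_right
  have hA : B.IsAlt := hf.alternating
  have hnd : ∀ l, ∀ w ∈ D l, (∀ v ∈ D l, B w v = 0) → w = 0 := fun l w hw h => by
    by_contra h0
    obtain ⟨y, hy, hy'⟩ := (hD.nondegenerate l w hw h0).2
    exact hy' (h y hy)
  obtain ⟨m, e, ε, he, hε, hef, hee, hff, hspan⟩ :=
    Forms.exists_symplectic_family B hA (D i) (hnd i)
  obtain ⟨m', e', ε', he', hε', hef', hee', hff', hspan'⟩ :=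
    Forms.exists_symplectic_family B hA (D j) (hnd j)
  have h1 := Forms.finrank_eq_of_symplectic_family B hA _ e ε he hε hef hee hff hspan
  have h2 := Forms.finrank_eq_of_symplectic_family B hA _ e' ε' he' hε' hef' hee' hff' hspan'
  rw [hD.decomp.finrank_eq] at h1 h2
  obtain rfl : m = m' := by omega
  -- transfer of a member's component
  let T : (e₁ ε₁ e₂ ε₂ : Fin m → (ι → F)) → (ι → F) →ₗ[F] (ι → F) := fun e₁ ε₁ e₂ ε₂ =>
    ∑ s, ((B.flip (ε₁ s)).smulRight (e₂ s) + (B (e₁ s)).smulRight (ε₂ s))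
  have hT : ∀ e₁ ε₁ e₂ ε₂ x, T e₁ ε₁ e₂ ε₂ x =
      ∑ s, (f x (ε₁ s) • e₂ s + f (e₁ s) x • ε₂ s) := fun _ _ _ _ _ => by
    simp [T, B]
  let Ti := T e ε e ε
  let Tj := T e' ε' e' ε'
  let A := T e ε e' ε'
  let A' := T e' ε' e ε
  have hTi : ∀ x, Ti x ∈ D i := fun x => by
    rw [show Ti x = _ from hT e ε e ε x]
    exact Submodule.sum_mem _ fun s _ => add_mem ((D i).smul_mem _ (he s)) ((D i).smul_mem _ (hε s))
  have hTj : ∀ x, Tj x ∈ D j := fun x => by
    rw [show Tj x = _ from hT e' ε' e' ε' x]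
    exact Submodule.sum_mem _ fun s _ =>
      add_mem ((D j).smul_mem _ (he' s)) ((D j).smul_mem _ (hε' s))
  have hA1 : ∀ x, A x ∈ D j := fun x => by
    rw [show A x = _ from hT e ε e' ε' x]
    exact Submodule.sum_mem _ fun s _ =>
      add_mem ((D j).smul_mem _ (he' s)) ((D j).smul_mem _ (hε' s))
  have hA2 : ∀ x, A' x ∈ D i := fun x => by
    rw [show A' x = _ from hT e' ε' e ε x]
    exact Submodule.sum_mem _ fun s _ => add_mem ((D i).smul_mem _ (he s)) ((D i).smul_mem _ (hε s))
  -- vanishing on vectors orthogonal to the source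
  have hvan : ∀ (l : Fin t) (e₁ ε₁ e₂ ε₂ : Fin m → (ι → F)) (x : ι → F),
      (∀ s, e₁ s ∈ D l ∧ ε₁ s ∈ D l) → (∀ w ∈ D l, f x w = 0) → T e₁ ε₁ e₂ ε₂ x = 0 := by
    intro l e₁ ε₁ e₂ ε₂ x hmem hx
    rw [hT]
    refine Finset.sum_eq_zero fun s _ => ?_
    rw [hx _ (hmem s).2, hf.skew (e₁ s) x, hx _ (hmem s).1]
    simp
  -- values on the basis of the source
  have hval : ∀ (e₁ ε₁ e₂ ε₂ : Fin m → (ι → F)),
      (∀ a b, B (e₁ a) (ε₁ b) = if a = b then 1 else 0) → (∀ a b, B (e₁ a) (e₁ b) = 0) →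
      (∀ a b, B (ε₁ a) (ε₁ b) = 0) → ∀ s,
      T e₁ ε₁ e₂ ε₂ (e₁ s) = e₂ s ∧ T e₁ ε₁ e₂ ε₂ (ε₁ s) = ε₂ s := by
    intro e₁ ε₁ e₂ ε₂ h1 h2 h3 s
    simp only [B, LinearMap.mk₂_apply] at h1 h2 h3
    constructor <;> rw [hT] <;>
      simp [h1, h2, h3, Finset.sum_add_distrib]
  have hext : ∀ (W : Submodule F (ι → F)) (e₁ ε₁ : Fin m → (ι → F)),
      W ≤ Submodule.span F (Set.range (Sum.elim e₁ ε₁)) → ∀ P P' : (ι → F) →ₗ[F] (ι → F),
      (∀ s, P (e₁ s) = P' (e₁ s) ∧ P (ε₁ s) = P' (ε₁ s)) → ∀ x ∈ W, P x = P' x := by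
    intro W e₁ ε₁ hW P P' h x hx
    refine LinearMap.eqOn_span ?_ (hW hx)
    rintro _ ⟨s | s, rfl⟩
    exacts [(h s).1, (h s).2]
  have hTiD : ∀ x ∈ D i, Ti x = x := hext _ e ε hspan Ti LinearMap.id (hval e ε e ε hef hee hff)
  have hTjD : ∀ x ∈ D j, Tj x = x :=
    hext _ e' ε' hspan' Tj LinearMap.id (hval e' ε' e' ε' hef' hee' hff')
  have hAA : ∀ x ∈ D i, A' (A x) = x := hext _ e ε hspan (A'.comp A) LinearMap.id fun s => by
    simp only [LinearMap.comp_apply, LinearMap.id_coe, id_eq]
    rw [show A (e s) = e' s from (hval e ε e' ε' hef hee hff s).1,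
      show A (ε s) = ε' s from (hval e ε e' ε' hef hee hff s).2]
    exact hval e' ε' e ε hef' hee' hff' s
  have hAA' : ∀ x ∈ D j, A (A' x) = x :=
    hext _ e' ε' hspan' (A.comp A') LinearMap.id fun s => by
    simp only [LinearMap.comp_apply, LinearMap.id_coe, id_eq]
    rw [show A' (e' s) = e s from (hval e' ε' e ε hef' hee' hff' s).1,
      show A' (ε' s) = ε s from (hval e' ε' e ε hef' hee' hff' s).2]
    exact hval e ε e' ε' hef hee hff s
  have hAiso : ∀ x ∈ D i, ∀ y ∈ D i, f (A x) (A y) = f x y := by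
    have hbi : ∀ a ∈ Set.range (Sum.elim e ε), ∀ b ∈ Set.range (Sum.elim e ε),
        B (A a) (A b) = B a b := by
      have h' : ∀ a b : Fin m, B (ε a) (e b) = B (ε' a) (e' b) := fun a b => by
        rw [← LinearMap.IsAlt.neg hA (e b), ← LinearMap.IsAlt.neg hA (e' b), hef, hef']
      rintro _ ⟨a | a, rfl⟩ _ ⟨b | b, rfl⟩ <;>
        simp only [Sum.elim_inl, Sum.elim_inr,
          show ∀ s, A (e s) = e' s from fun s => (hval e ε e' ε' hef hee hff s).1,
          show ∀ s, A (ε s) = ε' s from fun s => (hval e ε e' ε' hef hee hff s).2,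
          hef, hee, hff, hef', hee', hff', h']
    intro x hx y hy
    show B (A x) (A y) = B x y
    have h3 : ∀ b ∈ Set.range (Sum.elim e ε), B (A x) (A b) = B x b := fun b hb =>
      LinearMap.eqOn_span (f := (B.flip (A b)).comp A) (g := B.flip b)
        (fun a ha => hbi a ha b hb) (hspan hx)
    exact LinearMap.eqOn_span (f := (B (A x)).comp A) (g := B x) (fun b hb => h3 b hb) (hspan hy)
  -- the interchange
  let G : (ι → F) →ₗ[F] (ι → F) := LinearMap.id - Ti - Tj + A + A'
  have hvi : ∀ x, (∀ w ∈ D i, f x w = 0) → Ti x = 0 ∧ A x = 0 := fun x hx =>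
    ⟨hvan i e ε e ε x (fun s => ⟨he s, hε s⟩) hx, hvan i e ε e' ε' x (fun s => ⟨he s, hε s⟩) hx⟩
  have hvj : ∀ x, (∀ w ∈ D j, f x w = 0) → Tj x = 0 ∧ A' x = 0 := fun x hx =>
    ⟨hvan j e' ε' e' ε' x (fun s => ⟨he' s, hε' s⟩) hx,
      hvan j e' ε' e ε x (fun s => ⟨he' s, hε' s⟩) hx⟩
  have hGi : ∀ x ∈ D i, G x = A x := fun x hx => by
    have := hvj x fun w hw => orth_zero hf hD hij hx hw
    simp [G, hTiD x hx, this.1, this.2]
  have hGj : ∀ x ∈ D j, G x = A' x := fun x hx => by
    have := hvi x fun w hw => orth_zero hf hD (Ne.symm hij) hx hw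
    simp [G, hTjD x hx, this.1, this.2]
  have hGl : ∀ l, l ≠ i → l ≠ j → ∀ x ∈ D l, G x = x := fun l hli hlj x hx => by
    have h1 := hvi x fun w hw => orth_zero hf hD hli hx hw
    have h2 := hvj x fun w hw => orth_zero hf hD hlj hx hw
    simp [G, h1.1, h1.2, h2.1, h2.2]
  have hGG : ∀ l, ∀ x ∈ D l, G (G x) = x := fun l x hx => by
    by_cases hli : l = i
    · subst hli; rw [hGi x hx, hGj _ (hA1 x), hAA x hx]
    by_cases hlj : l = j
    · subst hlj; rw [hGj x hx, hGi _ (hA2 x), hAA' x hx]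
    rw [hGl l hli hlj x hx, hGl l hli hlj x hx]
  have hGG' : ∀ x, G (G x) = x := fun x => by
    obtain ⟨c, hc, rfl⟩ := exists_components hD.decomp x
    rw [map_sum, map_sum]
    exact Finset.sum_congr rfl fun l _ => hGG l _ (hc l)
  have hmm : LinearMap.toMatrix' G * LinearMap.toMatrix' G = 1 := by
    rw [← LinearMap.toMatrix'_comp, show G.comp G = LinearMap.id from LinearMap.ext hGG',
      LinearMap.toMatrix'_id]
  let g : GL ι F := ⟨LinearMap.toMatrix' G, LinearMap.toMatrix' G, hmm, hmm⟩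
  have hg : ∀ x, (g : Matrix ι ι F) *ᵥ x = G x := fun x => LinearMap.toMatrix'_mulVec G x
  -- images of the members
  have himg : ∀ l, ∀ x ∈ D l, G x ∈ D (Equiv.swap i j l) := by
    intro l x hx
    by_cases hli : l = i
    · subst hli; rw [hGi x hx, Equiv.swap_apply_left]; exact hA1 x
    by_cases hlj : l = j
    · subst hlj; rw [hGj x hx, Equiv.swap_apply_right]; exact hA2 x
    rw [hGl l hli hlj x hx, Equiv.swap_apply_of_ne_of_ne hli hlj]
    exact hx
  have hiso : ∀ l l', ∀ x ∈ D l, ∀ y ∈ D l', f (G x) (G y) = f x y := by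
    intro l l' x hx y hy
    by_cases hll : l = l'
    · subst hll
      by_cases hli : l = i
      · subst hli; rw [hGi x hx, hGi y hy, hAiso x hx y hy]
      by_cases hlj : l = j
      · subst hlj
        rw [hGj x hx, hGj y hy, ← hAiso _ (hA2 x) _ (hA2 y), hAA' x hx, hAA' y hy]
      rw [hGl l hli hlj x hx, hGl l hli hlj y hy]
    · rw [orth_zero hf hD hll hx hy]
      exact orth_zero hf hD (fun h => hll ((Equiv.swap i j).injective h)) (himg l x hx) (himg l' y hy)
  refine ⟨g, ⟨mem_decompositionStabilizer hf hD fun l => ?_, ?_⟩, ?_, ?_, ?_, ?_⟩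
  · exact ⟨Equiv.swap i j l, by
      rintro _ ⟨x, hx, rfl⟩; rw [Matrix.mulVecLin_apply, hg]; exact himg l x hx⟩
  · intro x y
    show f ((g : Matrix ι ι F) *ᵥ x) ((g : Matrix ι ι F) *ᵥ y) = f x y
    rw [hg, hg]
    obtain ⟨c, hc, rfl⟩ := exists_components hD.decomp x
    obtain ⟨d, hd, rfl⟩ := exists_components hD.decomp y
    show B (G (∑ l, c l)) (G (∑ l, d l)) = B (∑ l, c l) (∑ l, d l)
    simp only [map_sum, LinearMap.sum_apply]
    exact Finset.sum_congr rfl fun a _ => Finset.sum_congr rfl fun b _ =>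
      hiso _ _ _ (hc _) _ (hd _)
  · intro l hli hlj x hx; rw [hg, hGl l hli hlj x hx]
  · intro x hx; rw [hg, hGi x hx]; exact hA1 x
  · intro x hx; rw [hg, hGj x hx]; exact hA2 x
  · intro x; rw [hg, hg, hGG' x]

/-- All vectors with support `σ` are centres. -/
def Full (f : (ι → F) → (ι → F) → F) (D : Fin t → Submodule F (ι → F)) (M : Subgroup (GL ι F))
    (σ : Finset (Fin t)) : Prop :=
  ∀ c : Fin t → (ι → F), (∀ i, c i ∈ D i) → (∀ i ∈ σ, c i ≠ 0) → ∑ i ∈ σ, c i ∈ centres f M

variable {M : Subgroup (GL ι F)} (hM : ∀ i, ∀ v ∈ D i, v ∈ centres f M)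
include hM

theorem full_of_mem {σ : Finset (Fin t)} {c : Fin t → (ι → F)} (hc : ∀ i, c i ∈ D i)
    (hc0 : ∀ i ∈ σ, c i ≠ 0) (h : ∑ i ∈ σ, c i ∈ centres f M) : Full f D M σ := by
  intro d hd hd0
  suffices ∀ τ : Finset (Fin t), τ ⊆ σ →
      ∑ i ∈ σ, (if i ∈ τ then d i else c i) ∈ centres f M by
    simpa [Finset.sum_ite_mem] using (Finset.sum_congr rfl (fun i hi => by simp [hi]) :
      ∑ i ∈ σ, (if i ∈ σ then d i else c i) = ∑ i ∈ σ, d i) ▸ this σ subset_rfl
  intro τ
  induction τ using Finset.induction_on with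
  | empty => intro _; simpa using h
  | @insert a τ ha ih =>
    intro hsub
    obtain ⟨haσ, hτσ⟩ := Finset.insert_subset_iff.mp hsub
    have hmem : ∀ i, (if i ∈ τ then d i else c i) ∈ D i := fun i => by
      split_ifs
      exacts [hd i, hc i]
    have h1 := ih hτσ
    rw [← Finset.add_sum_erase _ _ haσ, if_neg ha] at h1
    have h2 := change_component hf (hM a) (hD.nondegenerate a)
      (b := ∑ i ∈ σ.erase a, (if i ∈ τ then d i else c i))
      (fun w hw => by rw [form_sum_left hf hD hmem hw]; simp)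
      (hc a) (hc0 a haσ) (hd a) (hd0 a haσ) h1
    rw [← Finset.add_sum_erase _ _ haσ, if_pos (Finset.mem_insert_self a τ)]
    convert h2 using 2
    refine Finset.sum_congr rfl fun i hi => ?_
    simp [(Finset.mem_erase.mp hi).1]

theorem main [Fintype F] (hex : ¬ (k = 2 ∧ Fintype.card F = 2)) (hHM : Geo.decompositionStabilizer D ⊓ isom f ≤ M)
    {u : ι → F} (hu : u ∈ centres f M) (hu' : ∀ i, u ∉ D i) : isom f ≤ M := by
  classical
  obtain ⟨c₀, hc₀, rfl⟩ := exists_components hD.decomp u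
  set σ := Finset.univ.filter fun i => c₀ i ≠ 0 with hσ
  have hsum : ∑ i ∈ σ, c₀ i = ∑ i, c₀ i :=
    Finset.sum_filter_of_ne fun i _ h => h
  have hσfull : Full f D M σ :=
    full_of_mem hf hD hM hc₀ (fun i hi => (Finset.mem_filter.mp hi).2) (hsum ▸ hu)
  obtain ⟨i, hi, j, hj, hij⟩ : ∃ i ∈ σ, ∃ j ∈ σ, i ≠ j := by
    by_contra hc
    simp only [not_exists, not_and, not_not] at hc
    rcases σ.eq_empty_or_nonempty with h | ⟨i, hi⟩
    · have h0 : (∑ i, c₀ i) = 0 := by rw [← hsum, h, Finset.sum_empty]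
      exact hu' ⟨0, by have := hD.decomp.two_le; omega⟩ (h0 ▸ zero_mem _)
    · have : σ = {i} := Finset.eq_singleton_iff_unique_mem.mpr ⟨hi, fun j hj => (hc i hi j hj).symm⟩
      exact hu' i (by rw [← hsum, this, Finset.sum_singleton]; exact hc₀ i)
  -- pairs
  have hpair : Full f D M {i, j} := by
    obtain ⟨a, ha, ha0⟩ := exists_ne_zero hf hD i
    obtain ⟨z, hz, hz'⟩ := (hD.nondegenerate i a ha ha0).2
    set a' := (f a z)⁻¹ • z with ha'
    have haa : f a a' = 1 := by rw [ha', hf.bilinear.smul_right, inv_mul_cancel₀ hz']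
    have ha'D : a' ∈ D i := (D i).smul_mem _ hz
    obtain ⟨b, hb, hb0⟩ := exists_ne_zero hf hD j
    obtain ⟨b', hb', hbb, hb'0, hb'b⟩ : ∃ b' ∈ D j, f b b' = 0 ∧ b' ≠ 0 ∧ b' ≠ b := by
      by_cases hq : Fintype.card F = 2
      · let L : D j →ₗ[F] F := (rmap hf.bilinear b).comp (D j).subtype
        have h1 := LinearMap.finrank_range_add_finrank_ker L
        have h2 := Submodule.finrank_le (LinearMap.range L)
        simp [hD.decomp.finrank_eq] at h1 h2
        have hk : 3 ≤ k := by
          obtain ⟨y, hy, hy'⟩ := (hD.nondegenerate j b hb hb0).2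
          have hli : LinearIndependent F ![(⟨b, hb⟩ : D j), ⟨y, hy⟩] := by
            rw [LinearIndependent.pair_iff' (fun h => hb0 (congrArg Subtype.val h))]
            intro r hr
            have := congrArg Subtype.val hr
            exact hy' (by rw [← show r • b = y from this, hf.bilinear.smul_right, hf.alternating,
              mul_zero])
          have := hli.fintype_card_le_finrank
          simp [hD.decomp.finrank_eq] at this
          rcases Nat.lt_or_ge k 3 with h | h
          · exact absurd ⟨by omega, hq⟩ hex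
          · exact h
        have h4 : ¬ LinearMap.ker L ≤ Submodule.span F {(⟨b, hb⟩ : D j)} := fun hle => by
          have h5 := Submodule.finrank_mono hle
          have h6 := finrank_span_le_card (R := F) ({(⟨b, hb⟩ : D j)} : Set (D j))
          simp at h6
          omega
        obtain ⟨w, hw, hw'⟩ := SetLike.not_le_iff_exists.mp h4
        refine ⟨w, w.2, LinearMap.mem_ker.mp hw, fun h => hw' ?_, fun h => hw' ?_⟩
        · rw [show w = 0 from Subtype.ext h]; exact zero_mem _
        · rw [show w = ⟨b, hb⟩ from Subtype.ext h]; exact Submodule.mem_span_singleton_self _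
      · obtain ⟨r, hr0, hr1⟩ : ∃ r : F, r ≠ 0 ∧ r ≠ 1 := by
          by_contra hc
          simp only [not_exists, not_and, not_not] at hc
          apply hq
          rw [Fintype.card_eq_nat_card, Nat.card_eq_two_iff]
          refine ⟨0, 1, zero_ne_one, Set.eq_univ_of_forall fun r => ?_⟩
          simpa [Set.mem_insert_iff] using (Classical.em (r = 0)).imp id (hc r)
        refine ⟨r • b, (D j).smul_mem _ hb, by rw [hf.bilinear.smul_right, hf.alternating, mul_zero],
          smul_ne_zero hr0 hb0, fun h => hr1 ?_⟩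
        have : (r - 1) • b = 0 := by rw [sub_smul, one_smul, h, sub_self]
        rcases smul_eq_zero.mp this with h | h
        · exact sub_eq_zero.mp h
        · exact absurd h hb0
    -- two centres with support `σ` differing at `i`, `j` only
    let d : Fin t → (ι → F) := fun l => if l = i then a else if l = j then b else c₀ l
    let d' : Fin t → (ι → F) := fun l => if l = i then a' else if l = j then b' else c₀ l
    have hd : ∀ l, d l ∈ D l ∧ d' l ∈ D l := fun l => by
      dsimp only [d, d']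
      split_ifs with h1 h2
      · subst h1; exact ⟨ha, ha'D⟩
      · subst h2; exact ⟨hb, hb'⟩
      · exact ⟨hc₀ l, hc₀ l⟩
    have ha'0 : a' ≠ 0 := fun h => by simp [h, form_zero_right hf.bilinear] at haa
    have hd0 : ∀ l ∈ σ, d l ≠ 0 ∧ d' l ≠ 0 := fun l hl => by
      dsimp only [d, d']
      split_ifs
      · exact ⟨ha0, ha'0⟩
      · exact ⟨hb0, hb'0⟩
      · exact ⟨(Finset.mem_filter.mp hl).2, (Finset.mem_filter.mp hl).2⟩
    have e1 := hσfull d (fun l => (hd l).1) (fun l hl => (hd0 l hl).1)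
    have e2 := hσfull d' (fun l => (hd l).2) (fun l hl => (hd0 l hl).2)
    have hne : f (∑ l ∈ σ, d l) (∑ l ∈ σ, d' l) ≠ 0 := by
      have h3 : ∀ l ∈ σ, f (∑ p ∈ σ, d p) (d' l) = if l = i then (1 : F) else 0 := by
        intro l hl
        rw [form_sum_left hf hD (fun p => (hd p).1) (hd l).2, if_pos hl]
        dsimp only [d, d']
        split_ifs
        · exact haa
        · exact hbb
        · exact hf.alternating _
      rw [← rmap_apply hf.bilinear, map_sum]
      simp only [rmap_apply]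
      rw [Finset.sum_congr rfl h3, Finset.sum_ite_eq', if_pos hi]
      exact one_ne_zero
    have h4 := add_smul_mem_centres hf e1 e2 hne (-1)
    have h5 : (∑ l ∈ σ, d l) + (-1 : F) • (∑ l ∈ σ, d' l) =
        ∑ l ∈ ({i, j} : Finset (Fin t)), (d l - d' l) := by
      rw [neg_one_smul, ← sub_eq_add_neg, ← Finset.sum_sub_distrib]
      refine (Finset.sum_subset (Finset.insert_subset hi (Finset.singleton_subset_iff.mpr hj))
        fun l _ hl => ?_).symm
      simp at hl
      simp [d, d', hl.1, hl.2]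
    rw [h5] at h4
    refine full_of_mem hf hD hM (fun l => sub_mem (hd l).1 (hd l).2) ?_ h4
    intro l hl h
    simp only [Finset.mem_insert, Finset.mem_singleton] at hl
    rcases hl with rfl | rfl
    · simp [d, d', sub_eq_zero] at h
      rw [← h, hf.alternating] at haa
      exact zero_ne_one haa
    · simp [d, d', Ne.symm hij, sub_eq_zero] at h
      exact hb'b h.symm
  -- transport along interchanges
  have hswap : ∀ p q r : Fin t, p ≠ q → p ≠ r → Full f D M {p, q} → Full f D M {p, r} := by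
    intro p q r hpq hpr hfull
    rcases eq_or_ne q r with rfl | hqr
    · exact hfull
    obtain ⟨g, hgmem, hgfix, hgq, hgr, hgg⟩ := exists_swap hf hD hqr
    intro c hc hc0
    let c' : Fin t → (ι → F) := fun l =>
      if l = q then (g : Matrix ι ι F) *ᵥ c r else if l = p then c p else 0
    have hc' : ∀ l, c' l ∈ D l := fun l => by
      dsimp only [c']
      split_ifs with h1 h2
      · subst h1; exact hgr _ (hc r)
      · subst h2; exact hc l
      · exact zero_mem _
    have h1 := hfull c' hc' fun l hl => by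
      simp only [Finset.mem_insert, Finset.mem_singleton] at hl
      rcases hl with rfl | rfl
      · simpa [c', hpq] using hc0 l (by simp)
      · simpa [c'] using mulVec_ne_zero g (hc0 r (by simp))
    rw [Finset.sum_pair hpq] at h1
    rw [Finset.sum_pair hpr]
    have h2 := conj_mem_centres hf (hHM hgmem) hgmem.2 h1
    simpa [c', hpq, mulVec_add, hgfix p hpq hpr _ (hc p), hgg] using h2
  have hall2 : ∀ p q, p ≠ q → Full f D M {p, q} := by
    intro p q hpq
    have h1 : ∀ r, i ≠ r → Full f D M {i, r} := fun r hr => hswap i j r hij hr hpair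
    rcases eq_or_ne p i with rfl | hpi
    · exact h1 q hpq
    have h2 := h1 p (Ne.symm hpi)
    rw [Finset.pair_comm] at h2
    exact hswap p i q hpi hpq h2
  -- larger supports
  have hall : ∀ n, ∀ τ : Finset (Fin t), τ.card = n → Full f D M τ := by
    intro n
    induction n using Nat.strong_induction_on with
    | _ n ih =>
      intro τ hτ c hc hc0
      match n with
      | 0 =>
        rw [Finset.card_eq_zero.mp hτ, Finset.sum_empty]
        exact hM i 0 (zero_mem _)
      | 1 =>
        obtain ⟨p, rfl⟩ := Finset.card_eq_one.mp hτ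
        rw [Finset.sum_singleton]
        exact hM p _ (hc p)
      | 2 =>
        obtain ⟨p, q, hpq, rfl⟩ := Finset.card_eq_two.mp hτ
        exact hall2 p q hpq c hc hc0
      | n + 3 =>
        obtain ⟨p, hp, q, hq, hpq⟩ := Finset.one_lt_card.mp (by omega : 1 < τ.card)
        obtain ⟨b, hb, hb'⟩ := (hD.nondegenerate p (c p) (hc p) (hc0 p hp)).1
        have hb0 : b ≠ 0 := fun h => hb' (by rw [h, form_zero_left hf.bilinear])
        have hcb : c p - b ≠ 0 := fun h => hb' (by rw [sub_eq_zero.mp h, hf.alternating])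
        let c₁ : Fin t → (ι → F) := Function.update c p b
        have hc₁ : ∀ l, c₁ l ∈ D l := fun l => by
          rcases eq_or_ne l p with rfl | h <;> simp [c₁, *]
        have hU := ih (τ.erase q).card (by rw [Finset.card_erase_of_mem hq]; omega) _ rfl c₁ hc₁
          fun l hl => by
            rcases eq_or_ne l p with rfl | h
            · simp [c₁, hb0]
            · simpa [c₁, h] using hc0 l (Finset.mem_of_mem_erase hl)
        let c₂ : Fin t → (ι → F) := Function.update c p (c p - b)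
        have hc₂ : ∀ l, c₂ l ∈ D l := fun l => by
          rcases eq_or_ne l p with rfl | h
          · simpa [c₂] using sub_mem (hc l) hb
          · simp [c₂, h, hc]
        have hV := hall2 p q hpq c₂ hc₂ fun l hl => by
          simp only [Finset.mem_insert, Finset.mem_singleton] at hl
          rcases hl with rfl | rfl
          · simpa [c₂] using hcb
          · simpa [c₂, Ne.symm hpq] using hc0 l hq
        rw [Finset.sum_pair hpq] at hV
        have hne : f (∑ l ∈ τ.erase q, c₁ l) (c₂ p + c₂ q) ≠ 0 := by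
          rw [hf.bilinear.add_right, form_sum_left hf hD hc₁ (hc₂ p),
            form_sum_left hf hD hc₁ (hc₂ q)]
          simp [c₁, c₂, hpq, hp, form_sub_right hf.bilinear, hf.alternating, hb']
        have h6 := add_smul_mem_centres hf hU hV hne 1
        convert h6 using 1
        rw [one_smul, ← Finset.add_sum_erase _ _ hq,
          ← Finset.add_sum_erase (τ.erase q) c (Finset.mem_erase.mpr ⟨hpq, hp⟩),
          ← Finset.add_sum_erase (τ.erase q) c₁ (Finset.mem_erase.mpr ⟨hpq, hp⟩)]
        have h7 : ∑ x ∈ (τ.erase q).erase p, c₁ x = ∑ x ∈ (τ.erase q).erase p, c x :=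
          Finset.sum_congr rfl fun l hl => by simp [c₁, (Finset.mem_erase.mp hl).1]
        rw [h7]
        simp [c₁, c₂, Ne.symm hpq]
        abel
  refine isom_le_of_st_mem hf fun v => ?_
  obtain ⟨c, hc, rfl⟩ := exists_components hD.decomp v
  have h := hall _ (Finset.univ.filter fun l => c l ≠ 0) rfl c hc
    fun l hl => (Finset.mem_filter.mp hl).2
  rwa [Finset.sum_filter_of_ne fun l _ h => h] at h

end Helpers

open Matrix Cfsg.Agent.MaxSub


/-- For a finite field F with q elements and m ≥ 2, let D be a decomposition of F^(2m) into t ≥ 2 pairwise orthogonal subspaces of equal dimension k on each of which the standard alternating form is non-degenerate, spanning F^(2m). Unless k = 2 and q = 2, the elements of Sp_2m(F) permuting the members of D form a maximal subgroup of Sp_2m(F). -/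
theorem isMaximalIn {F : Type*} [Field F] [Fintype F] (m : ℕ) (hm : 2 ≤ m) {t : ℕ} (k : ℕ) (D : Fin t → Submodule F (Fin m ⊕ Fin m → F)) (hD : Cfsg.Geo.IsNondegenerateMDecomposition (Cfsg.sympForm m F) k D) (hex : ¬ (k = 2 ∧ Fintype.card F = 2)) : Cfsg.Geo.IsMaximalIn (Cfsg.spGL m F) (Cfsg.Geo.decompositionStabilizer D ⊓ Cfsg.spGL m F) := by
  have hf := isSymplecticForm_sympForm (F := F) m
  rw [spGL_eq_isom]
  refine isMaximalIn_of inf_le_right ?_ fun M hHM hMK g hg hgH => ?_
  · -- an isometry outside the stabiliser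
    have htwo := hD.decomp.two_le
    set i : Fin t := ⟨0, by omega⟩
    set j : Fin t := ⟨1, by omega⟩
    have hij : i ≠ j := by simp [i, j, Fin.ext_iff]
    obtain ⟨a, ha, ha0⟩ := exists_ne_zero hf hD i
    obtain ⟨b, hb, hb0⟩ := exists_ne_zero hf hD j
    obtain ⟨x, hx, hx'⟩ := (hD.nondegenerate i a ha ha0).1
    refine ⟨st (sympForm m F) (a + b) 1, st_mem_isom hf _ _, fun hmem => ?_⟩
    obtain ⟨σ, hσ⟩ := hmem.1
    have h1 : (st (sympForm m F) (a + b) 1 : Matrix _ _ F) *ᵥ x ∈ D (σ i) := by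
      rw [← hσ i, Matrix.toLin'_apply']
      exact Submodule.mem_map_of_mem hx
    rw [st_mulVec hf, one_mul, hf.bilinear.add_right, orth_zero hf hD hij hx hb, add_zero] at h1
    obtain ⟨w, hw, hw'⟩ := (hD.nondegenerate j b hb hb0).2
    have hσj : σ i = j := by
      by_contra h
      have h2 := orth_zero hf hD h h1 hw
      rw [hf.bilinear.add_left, orth_zero hf hD hij hx hw, zero_add, hf.bilinear.smul_left,
        hf.bilinear.add_left, orth_zero hf hD hij ha hw, zero_add] at h2
      exact mul_ne_zero hx' hw' h2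
    -- but its `i`-component pairs with `D i`
    have h3 := orth_zero hf hD (Ne.symm hij) (hσj ▸ h1) ha
    rw [hf.bilinear.add_left, hf.bilinear.smul_left, hf.bilinear.add_left, hf.alternating,
      orth_zero hf hD (Ne.symm hij) hb ha, add_zero, mul_zero, add_zero] at h3
    exact hx' h3
  · have hM : ∀ i, ∀ v ∈ D i, v ∈ centres (sympForm m F) M :=
      fun i v hv c => hHM (st_mem_stab hf hD hv c)
    have hgi := hMK hg
    by_contra hcon
    refine hgH ⟨mem_decompositionStabilizer hf hD fun i => ?_, hgi⟩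
    refine exists_le hf hD fun x hx => ?_
    obtain ⟨y, hy, rfl⟩ := Submodule.mem_map.mp hx
    by_contra hc
    exact hcon (main hf hD hM hex hHM (conj_mem_centres hf hg hgi (hM i y hy))
      (not_exists.mp hc))

end Cfsg.Agent.SpGeo11.Decomp
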