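import Cfsg.Agent.SpGeo11.ExtMain

set_option autoImplicit false
open Cfsg

namespace Cfsg.Agent.SpGeo11.Ext

open Cfsg.Agent.ExtFieldMax in
open Cfsg.Agent.MaxSub in
open Matrix in
/-- For a finite field F and m ≥ 3, let K be a subfield of the algebra of 2m × 2m matrices over F containing the scalars, of prime degree r over F, whose elements k are self-adjoint for the standard alternating form f on F^(2m) (f(k u, v) = f(u, k v)) and satisfy f(k v, v) = 0 for all v. Then the elements of Sp_2m(F) normalising K form a maximal subgroup of Sp_2m(F). -/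
theorem isMaximalIn {F : Type*} [Field F] [Fintype F] (m : ℕ) (hm : 3 ≤ m) (r : ℕ) (hr2 : r = 2 → 6 ≤ m) (hr : r.Prime) (K : Subalgebra F (Matrix (Fin m ⊕ Fin m) (Fin m ⊕ Fin m) F)) (hK : Cfsg.Geo.IsFieldSubalgebra r K) (hsa : Cfsg.Geo.IsSelfAdjointFor (Cfsg.sympForm m F) K) (halt : ∀ k ∈ K, ∀ v : (Fin m ⊕ Fin m → F), Cfsg.sympForm m F (Matrix.mulVec k v) v = 0) : Cfsg.Geo.IsMaximalIn (Cfsg.spGL m F) (Cfsg.Geo.subalgebraNormalizer K ⊓ Cfsg.spGL m F) := by
  have hf := isSymplecticForm_sympForm (F := F) m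
  rw [spGL_eq_isom]
  obtain ⟨G⟩ := Sp.exists_kForm hf hK hr
  obtain ⟨v, hv⟩ : ∃ v : Fin m ⊕ Fin m → F, v ≠ 0 :=
    ⟨Pi.single (Sum.inl ⟨0, by omega⟩) 1, by simp⟩
  have hn : Fintype.card (Fin m ⊕ Fin m) = m + m := by simp
  have hle : r ≤ m + m := by
    have := (kline K v).finrank_le
    rwa [finrank_kline hK hv, Module.finrank_fintype_fun_eq_card, hn] at this
  have hcard : r < Fintype.card (Fin m ⊕ Fin m) := by
    rw [hn]
    refine lt_of_le_of_ne hle fun he => ?_
    have : r = 2 := (Nat.Prime.eq_two_or_odd' hr).resolve_right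
      (fun ho => by rw [Nat.odd_iff] at ho; omega)
    omega
  refine isMaximalIn_of inf_le_right ⟨st (sympForm m F) v 1, st_mem_isom hf v 1, ?_⟩
    fun M hHM hMI g hg hgH => ?_
  · -- a transvection does not normalise the field
    intro hmem
    obtain ⟨k, hk⟩ : ∃ k : K, ev K v k ∉ Submodule.span F {v} := by
      by_contra hc
      push Not at hc
      have h1 : kline K v ≤ Submodule.span F {v} := by rintro _ ⟨k, rfl⟩; exact hc k
      have h2 := Submodule.finrank_mono h1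
      rw [finrank_kline hK hv, finrank_span_singleton hv] at h2
      have := hr.two_le
      omega
    set t := st (sympForm m F) v 1
    have hk' := (hmem.1 (k : Matrix (Fin m ⊕ Fin m) (Fin m ⊕ Fin m) F)).mp k.2
    set k' : K := ⟨_, hk'⟩
    have hcomm : ∀ y, (t : Matrix (Fin m ⊕ Fin m) (Fin m ⊕ Fin m) F) *ᵥ ((k : Matrix (Fin m ⊕ Fin m) (Fin m ⊕ Fin m) F) *ᵥ y) =
        (k' : Matrix (Fin m ⊕ Fin m) (Fin m ⊕ Fin m) F) *ᵥ ((t : Matrix (Fin m ⊕ Fin m) (Fin m ⊕ Fin m) F) *ᵥ y) := fun y => by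
      show _ = ((t : Matrix (Fin m ⊕ Fin m) (Fin m ⊕ Fin m) F) * _ * _) *ᵥ _
      rw [← mulVec_mulVec _ (_ * _), inv_mulVec_mulVec, mulVec_mulVec]
    obtain ⟨x, hx, hx0⟩ : ∃ x ∈ LinearMap.ker (lmap hf.bilinear v) ⊓
        LinearMap.ker (lmap hf.bilinear v ∘ₗ (k : Matrix (Fin m ⊕ Fin m) (Fin m ⊕ Fin m) F).mulVecLin), x ≠ 0 := by
      refine Submodule.exists_mem_ne_zero_of_ne_bot fun h0 => ?_
      have hker : ∀ χ : (Fin m ⊕ Fin m → F) →ₗ[F] F,
          m + m ≤ Module.finrank F (LinearMap.ker χ) + 1 := fun χ => by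
        have e1 := LinearMap.finrank_range_add_finrank_ker χ
        have e2 := (LinearMap.range χ).finrank_le
        rw [Module.finrank_self] at e2
        rw [Module.finrank_fintype_fun_eq_card, hn] at e1
        omega
      have e3 := Submodule.finrank_sup_add_finrank_inf_eq (LinearMap.ker (lmap hf.bilinear v))
        (LinearMap.ker (lmap hf.bilinear v ∘ₗ (k : Matrix (Fin m ⊕ Fin m) (Fin m ⊕ Fin m) F).mulVecLin))
      have e4 := (LinearMap.ker (lmap hf.bilinear v) ⊔
        LinearMap.ker (lmap hf.bilinear v ∘ₗ (k : Matrix (Fin m ⊕ Fin m) (Fin m ⊕ Fin m) F).mulVecLin)).finrank_le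
      have e5 := hker (lmap hf.bilinear v)
      have e6 := hker (lmap hf.bilinear v ∘ₗ (k : Matrix (Fin m ⊕ Fin m) (Fin m ⊕ Fin m) F).mulVecLin)
      rw [Module.finrank_fintype_fun_eq_card, hn] at e4
      rw [h0, finrank_bot] at e3
      omega
    have hxv : sympForm m F x v = 0 := hx.1
    have hkxv : sympForm m F ((k : Matrix (Fin m ⊕ Fin m) (Fin m ⊕ Fin m) F) *ᵥ x) v = 0 := hx.2
    have hkk : k' = k := by
      have h1 := hcomm x
      rw [st_mulVec hf, st_mulVec hf, hxv, hkxv, mul_zero, zero_smul, add_zero, add_zero] at h1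
      exact ev_injective hK hx0 h1.symm
    obtain ⟨y, hy⟩ := (hf.nondegenerate v hv).1
    have h1 := hcomm y
    rw [hkk, st_mulVec hf, st_mulVec hf, mulVec_add, mulVec_smul, add_right_inj] at h1
    refine hk (Submodule.mem_span_singleton.mpr
      ⟨(1 * sympForm m F y v)⁻¹ * (1 * sympForm m F ((k : Matrix (Fin m ⊕ Fin m) (Fin m ⊕ Fin m) F) *ᵥ y) v), ?_⟩)
    rw [← smul_smul, h1, smul_smul, inv_mul_cancel₀ (by rwa [one_mul]), one_smul]
    rfl
  · have hT : Sp.HasTransvections G M := Sp.hasTransvections_of hf hK hsa halt G hr.one_lt.le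
      fun d hd hdc => hHM ⟨mem_normalizer_of_comm hdc, hd⟩
    refine SpGeo11.Ext.isom_le_of_not_lines hK hr hf hsa halt G hT hMI (fun h2 => by rw [hn, h2]; have := hr2 h2; omega) hv ?_
    by_contra hno
    push Not at hno
    exact hgH ⟨mem_normalizer_of_lines hK hr hcard (hno g hg) (hno g⁻¹ (inv_mem hg)), hMI hg⟩

end Cfsg.Agent.SpGeo11.Ext
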