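import Cfsg.Agent.SpGeo11.TensorFourMain
import Cfsg.Agent.Classical10.NotMax.Tensor
import Cfsg.Agent.TensorInv.Finish

/-!
Tensor stabilisers `Sp ⊗ O` are maximal in the symplectic group, given the engine for the pair of
dimensions (helper11).
-/

set_option autoImplicit false
set_option linter.unusedSectionVars false

namespace Cfsg.Agent.SpGeo11.Tensor

open Matrix Cfsg.Agent.MaxSub Cfsg.Agent.TensorMax Cfsg.Agent.TensorInv Module

section Phi

variable {F : Type*} [Field F] {a b : ℕ} {ι : Type} [Fintype ι] [DecidableEq ι]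

/-- The change of coordinates of a tensor decomposition. -/
def phi (e : ι ≃ Fin a × Fin b) (P : GL ι F) : GL (Fin a × Fin b) F ≃* GL ι F :=
  (Cfsg.Geo.glReindex e.symm).trans (MulAut.conj P)

theorem phi_mulVec (e : ι ≃ Fin a × Fin b) (P : GL ι F) (g : GL (Fin a × Fin b) F)
    (z : Fin a × Fin b → F) :
    (phi e P g : Matrix ι ι F) *ᵥ ((P : Matrix ι ι F) *ᵥ (z ∘ e)) =
      (P : Matrix ι ι F) *ᵥ (((g : Matrix (Fin a × Fin b) (Fin a × Fin b) F) *ᵥ z) ∘ e) := by
  rw [show phi e P g = P * Cfsg.Geo.glReindex e.symm g * P⁻¹ from rfl, Units.val_mul, Units.val_mul,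
    ← mulVec_mulVec, ← mulVec_mulVec, inv_mulVec_mulVec]
  congr 1
  show (Matrix.reindex e.symm e.symm (g : Matrix _ _ F)) *ᵥ _ = _
  rw [Matrix.reindex_apply, Matrix.submatrix_mulVec_equiv]
  simp only [Equiv.symm_symm, Function.comp_assoc, Equiv.self_comp_symm, Function.comp_id]

end Phi

variable {F : Type*} [Field F] [Fintype F]

/-- Maximality of a tensor stabiliser from the absence of overgroups without root elements. -/
theorem isMaximalIn_of_engine {m a b : ℕ} (ha : 3 ≤ a ∨ 2 ≤ a ∧ 3 ≤ b) (hb : 2 ≤ b)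
    (hodd : Odd (Fintype.card F)) (e : (Fin m ⊕ Fin m) ≃ Fin a × Fin b)
    (P : GL (Fin m ⊕ Fin m) F) (f₁ : (Fin a → F) → (Fin a → F) → F)
    (f₂ : (Fin b → F) → (Fin b → F) → F) (hf₁ : Cfsg.Geo.IsSymplecticForm f₁)
    (hf₂ : Cfsg.Geo.IsSymmetricForm f₂)
    (hT : Cfsg.Geo.IsTensorFormStructure id (Cfsg.sympForm m F) f₁ f₂ e P)
    (engine : ∀ (S : TForm F a b) (H : Subgroup (GL (Fin a × Fin b) F)), Over S H → S.ε = -1 →
      ¬ Root S H → H ≤ Cfsg.Geo.kroneckerSubgroup a b F) :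
    Cfsg.Geo.IsMaximalIn (Cfsg.spGL m F)
      (Cfsg.Geo.tensorProductSubgroup a b e P ⊓ Cfsg.spGL m F) := by
  classical
  obtain ⟨c, hc, hT⟩ := hT
  have h2 : (2 : F) ≠ 0 := fun h => by
    have := CharP.ringChar_of_prime_eq_zero (R := F) Nat.prime_two (by exact_mod_cast h)
    have hev : Even (Fintype.card F) := by
      rw [Nat.even_iff]; exact FiniteField.even_card_iff_char_two.mp this
    exact Nat.not_odd_iff_even.mpr hev hodd
  have hb₁ := hf₁.bilinear
  have hb₂ := hf₂.bilinear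
  let S : TForm F a b :=
    { f₁ := c • LinearMap.mk₂ F f₁ hb₁.add_left hb₁.smul_left hb₁.add_right hb₁.smul_right
      f₂ := LinearMap.mk₂ F f₂ hb₂.add_left hb₂.smul_left hb₂.add_right hb₂.smul_right
      ε := -1
      hε := by ring
      flip₁ := fun x y => by simp [hf₁.skew y x]
      flip₂ := fun v w => by simp [hf₂.symm w v]
      nd₁ := fun v hv => by
        by_contra h0
        obtain ⟨x, hx⟩ := (hf₁.nondegenerate v h0).2
        exact hx (by simpa [hc] using hv x)
      nd₂ := fun v hv => by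
        by_contra h0
        obtain ⟨x, hx⟩ := (hf₂.nondegenerate v h0).2
        exact hx (by simpa using hv x)
      two := h2 }
  let L : V F a b →ₗ[F] (Fin m ⊕ Fin m → F) :=
    (P : Matrix (Fin m ⊕ Fin m) (Fin m ⊕ Fin m) F).mulVecLin ∘ₗ LinearMap.funLeft F F e
  have hL : ∀ z, L z = (P : Matrix (Fin m ⊕ Fin m) (Fin m ⊕ Fin m) F) *ᵥ (z ∘ e) := fun z => rfl
  have hbs := (isSymplecticForm_sympForm (F := F) m).bilinear
  have hemb : ∀ v x w y, sympForm m F (L (emb v x)) (L (emb w y)) = S.om (emb v x) (emb w y) := by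
    intro v x w y
    rw [S.om_emb_emb]
    show sympForm m F (NotMax.ten e P x v) (NotMax.ten e P y w) =
      c * f₁ x y * f₂ v w
    exact NotMax.form_ten (σ := RingHom.id F) hT
      (NotMax.eq_formOfGram _ hb₁.add_left hb₁.smul_left hb₁.add_right hb₁.smul_right)
      (NotMax.eq_formOfGram _ hb₂.add_left hb₂.smul_left hb₂.add_right hb₂.smul_right)
      x y v w
  have hom : ∀ z z', sympForm m F (L z) (L z') = S.om z z' := by
    have hl : ∀ v x z', sympForm m F (L (emb v x)) (L z') = S.om (emb v x) z' := fun v x z' => by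
      refine LinearMap.congr_fun (f := (rmap hbs (L (emb v x))) ∘ₗ L)
        (g := rmap S.om_bilinear (emb v x)) ?_ z'
      refine LinearMap.ext fun u => ?_
      conv_lhs => rw [eq_sum_emb u]
      conv_rhs => rw [eq_sum_emb u]
      rw [map_sum, map_sum]
      exact Finset.sum_congr rfl fun j _ => hemb _ _ _ _
    intro z z'
    refine LinearMap.congr_fun (f := (lmap hbs (L z')) ∘ₗ L) (g := lmap S.om_bilinear z') ?_ z
    refine LinearMap.ext fun u => ?_
    conv_lhs => rw [eq_sum_emb u]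
    conv_rhs => rw [eq_sum_emb u]
    rw [map_sum, map_sum]
    exact Finset.sum_congr rfl fun j _ => hl _ _ _
  have hLsurj : ∀ u, ∃ z, L z = u := fun u =>
    ⟨(((P⁻¹ : GL (Fin m ⊕ Fin m) F) : Matrix (Fin m ⊕ Fin m) (Fin m ⊕ Fin m) F) *ᵥ u) ∘ e.symm, by
      rw [hL, Function.comp_assoc, Equiv.symm_comp_self, Function.comp_id, mulVec_inv_mulVec]⟩
  have hinj : Function.Injective (phi e P).toMonoidHom := (phi e P).injective
  have hI : (isom S.om).map (phi e P).toMonoidHom = spGL m F := by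
    rw [spGL_eq_isom]
    ext g
    constructor
    · rintro ⟨k, hk, rfl⟩ u v
      obtain ⟨z, rfl⟩ := hLsurj u
      obtain ⟨z', rfl⟩ := hLsurj v
      show sympForm m F ((phi e P k : Matrix _ _ F) *ᵥ L z) ((phi e P k : Matrix _ _ F) *ᵥ L z') = _
      rw [hL, hL, phi_mulVec, phi_mulVec, ← hL, ← hL, ← hL, ← hL, hom, hom]
      exact hk z z'
    · intro hg
      refine ⟨(phi e P).symm g, fun z z' => ?_, (phi e P).apply_symm_apply g⟩
      have h1 := fun z => phi_mulVec e P ((phi e P).symm g) z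
      simp only [MulEquiv.apply_symm_apply, ← hL] at h1
      show S.om ((((phi e P).symm g : GL (Fin a × Fin b) F) : Matrix (Fin a × Fin b) (Fin a × Fin b) F) *ᵥ z)
        ((((phi e P).symm g : GL (Fin a × Fin b) F) : Matrix (Fin a × Fin b) (Fin a × Fin b) F) *ᵥ z') = S.om z z'
      rw [← hom, ← hom, ← h1, ← h1]
      exact hg _ _
  have hK : (Cfsg.Geo.kroneckerSubgroup a b F ⊓ isom S.om).map (phi e P).toMonoidHom =
      Cfsg.Geo.tensorProductSubgroup a b e P ⊓ spGL m F := by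
    rw [Subgroup.map_inf _ _ _ hinj, hI, Cfsg.Geo.tensorProductSubgroup, Subgroup.map_map]
    rfl
  refine MaxSub.isMaximalIn_of inf_le_right ?_ fun M hHM hMK g hg hgH => ?_
  · -- a transvection with pure centre is not a product
    obtain ⟨d, hd⟩ := (S.sym₂ rfl).exists_aniso (by omega)
    have hd0 : d ≠ 0 := fun h0 => by simp [h0] at hd
    set x : Fin a → F := fun _ => 1
    have hx : x ≠ 0 := fun h0 => one_ne_zero (congrFun h0 ⟨0, by omega⟩)
    set p := emb d x with hp
    have hp0 : p ≠ 0 := fun h0 => hx (emb_injective hd0 (h0.trans (map_zero _).symm))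
    refine ⟨phi e P (st S.om p 1), hI ▸ Subgroup.mem_map_of_mem _
      (st_mem_isom S.om_symplectic p 1), fun hmem => ?_⟩
    rw [← hK] at hmem
    obtain ⟨t, ⟨⟨g, k, hgk⟩, -⟩, hte⟩ := hmem
    obtain rfl : t = st S.om p 1 := (phi e P).injective hte
    have hgk' : st S.om p 1 = kr g k := Units.ext hgk
    -- a column fixed pointwise: `x` itself
    have hfix : ∀ s, act (kr g k) (emb s x) = emb s x := fun s => by
      rw [← hgk', act_apply, st_mulVec S.om_symplectic, hp, S.om_emb_emb, S.alt₁ rfl, zero_mul,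
        mul_zero, zero_smul, add_zero]
    obtain ⟨v, hv⟩ := (S.om_nd p hp0).1
    have := eq_one_of_column hx S hfix (Submodule.span F {p})
      (by rw [finrank_span_singleton hp0]; omega) (fun z => by
        rw [← hgk', act_apply, st_mulVec S.om_symplectic, add_sub_cancel_left]
        exact Submodule.smul_mem _ _ (Submodule.mem_span_singleton_self p)) v
    rw [← hgk', act_apply, st_mulVec S.om_symplectic, one_mul, add_eq_left, smul_eq_zero] at this
    exact this.elim hv hp0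
  set H := M.comap (phi e P).toMonoidHom with hHdef
  have hHM' : ∀ k, k ∈ Cfsg.Geo.kroneckerSubgroup a b F ⊓ isom S.om → k ∈ H := fun k hk =>
    hHM (hK ▸ Subgroup.mem_map_of_mem _ hk)
  have O : Over S H := by
    refine ⟨fun k hk => ?_, fun g k hk => hHM' _ ⟨TensorMax.kr_mem g k, hk⟩⟩
    have := hMK hk
    rw [← hI] at this
    exact (Subgroup.mem_map_iff_mem hinj).1 this
  by_cases hR : Root S H
  · intro u hu
    rw [← hI] at hu
    obtain ⟨k, hk, rfl⟩ := hu
    exact isom_le_of_root O rfl hR hk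
  · refine absurd ?_ hgH
    obtain ⟨k, rfl⟩ := (phi e P).surjective g
    have hk : k ∈ H := hg
    rw [← hK]
    exact Subgroup.mem_map_of_mem _ ⟨engine S H O rfl hR hk, O.isom hk⟩

/-- `Sp₂ ⊗ O_b`, `b ≥ 5`. -/
theorem isMaximalIn_two {m b : ℕ} (hb : 5 ≤ b) (hodd : Odd (Fintype.card F))
    (e : (Fin m ⊕ Fin m) ≃ Fin 2 × Fin b) (P : GL (Fin m ⊕ Fin m) F)
    (f₁ : (Fin 2 → F) → (Fin 2 → F) → F) (f₂ : (Fin b → F) → (Fin b → F) → F)
    (hf₁ : Cfsg.Geo.IsSymplecticForm f₁) (hf₂ : Cfsg.Geo.IsSymmetricForm f₂)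
    (hT : Cfsg.Geo.IsTensorFormStructure id (Cfsg.sympForm m F) f₁ f₂ e P) :
    Cfsg.Geo.IsMaximalIn (Cfsg.spGL m F)
      (Cfsg.Geo.tensorProductSubgroup 2 b e P ⊓ Cfsg.spGL m F) :=
  isMaximalIn_of_engine (Or.inr ⟨le_rfl, by omega⟩) (by omega) hodd e P f₁ f₂ hf₁ hf₂ hT
    fun _ _ O hε hR => le_kronecker_alt O hε hR (by omega) (by omega) hb

/-- `Sp₄ ⊗ O₃`, at least five field elements. -/
theorem isMaximalIn_four {m : ℕ} (hodd : Odd (Fintype.card F)) (h5 : 5 ≤ Fintype.card F)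
    (e : (Fin m ⊕ Fin m) ≃ Fin 4 × Fin 3) (P : GL (Fin m ⊕ Fin m) F)
    (f₁ : (Fin 4 → F) → (Fin 4 → F) → F) (f₂ : (Fin 3 → F) → (Fin 3 → F) → F)
    (hf₁ : Cfsg.Geo.IsSymplecticForm f₁) (hf₂ : Cfsg.Geo.IsSymmetricForm f₂)
    (hT : Cfsg.Geo.IsTensorFormStructure id (Cfsg.sympForm m F) f₁ f₂ e P) :
    Cfsg.Geo.IsMaximalIn (Cfsg.spGL m F)
      (Cfsg.Geo.tensorProductSubgroup 4 3 e P ⊓ Cfsg.spGL m F) := by
  classical
  refine isMaximalIn_of_engine (Or.inl (by omega)) (by omega) hodd e P f₁ f₂ hf₁ hf₂ hT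
    fun _ _ O hε hR => le_kronecker_four O hε hR ?_
  by_contra hn
  push Not at hn
  have hsub : (Finset.univ : Finset F) ⊆ {0, 1, -1} := fun t _ => by
    by_cases ht : t = 0
    · simp [ht]
    rcases sq_eq_one_iff.1 (hn t ht) with h | h <;> simp [h]
  have := Finset.card_le_card hsub
  have h3 : ({0, 1, -1} : Finset F).card ≤ 3 := Finset.card_le_three
  rw [Finset.card_univ] at this
  omega

end Cfsg.Agent.SpGeo11.Tensor
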