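import Cfsg.Agent.SpGeo11.TensorSmall

/-!
The stabiliser of `Sp₄ ⊗ O₃` has no proper overgroup without root elements, at least five field
elements (helper11). A pairing of rank one between two columns gives a root element; with it the
centraliser of every non-trivial involution of the stabiliser lies in the stabiliser, and a
dihedral group joins any element to such an involution.
-/

set_option autoImplicit false
set_option linter.unusedSectionVars false
set_option linter.unusedSimpArgs false

namespace Cfsg.Agent.SpGeo11.Tensor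

open Matrix Cfsg.Agent.MaxSub Cfsg.Agent.TensorMax Cfsg.Agent.TensorInv Module

variable {F : Type*} [Field F] [Finite F] {S : TForm F 4 3}
  {H : Subgroup (GL (Fin 4 × Fin 3) F)}
  (O : Over S H) (hε : S.ε = -1) (hR : ¬ Root S H) (hq : ∃ t : F, t ≠ 0 ∧ t ^ 2 ≠ 1)

include O hε hR hq

/-- An element carrying a column to a column lies in the stabiliser. -/
theorem kron_of_lineTo' {h : GL (Fin 4 × Fin 3) F} (hh : h ∈ H) {x y : Fin 4 → F} (hx : x ≠ 0)
    (hy : y ≠ 0) (hl : LineTo (flipGL F 4 3 h) x y) : h ∈ Cfsg.Geo.kroneckerSubgroup 4 3 F := by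
  rw [← flipGL_mem_kronecker]
  refine kron_of_lineTo_alt O.swap (S := S.swap) (show -S.ε = 1 by rw [hε, neg_neg])
    (fun h' => hR h'.swap) le_rfl (Or.inr hq) (by omega) ?_ hx hy hl
  rw [mem_flipH, flipGL_flipGL]; exact hh

/-- An element fixing a column pointwise lies in the stabiliser. -/
theorem kron_of_fix_column {h : GL (Fin 4 × Fin 3) F} (hh : h ∈ H) {x : Fin 4 → F} (hx : x ≠ 0)
    (hfix : ∀ s, act h (emb s x) = emb s x) : h ∈ Cfsg.Geo.kroneckerSubgroup 4 3 F :=
  kron_of_lineTo' O hε hR hq hh hx hx fun s => ⟨s, by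
    rw [← act_apply, ← flipV_emb s x, flipGL_act, hfix]⟩

/-- An element conjugating a transvection of the column into the stabiliser lies in it. -/
theorem kron_of_conj {h : GL (Fin 4 × Fin 3) F} (hh : h ∈ H) {x : Fin 4 → F} (hx : x ≠ 0)
    (hm : h * colT S hε x * h⁻¹ ∈ Cfsg.Geo.kroneckerSubgroup 4 3 F) :
    h ∈ Cfsg.Geo.kroneckerSubgroup 4 3 F := by
  have hmem : flipGL F 4 3 h ∈ flipH H := by rw [mem_flipH, flipGL_flipGL]; exact hh
  have hk : kr (1 : GL (Fin 3) F) (trans S.f₁ (S.alt₁ hε) x 1) ∈ isom S.swap.om := by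
    rw [← flipGL_kr]
    exact S.swap_isom.2 (O.isom (colT_mem O hε x))
  obtain ⟨y, hy, hl⟩ := lineTo_of_conj (S := S.swap) (h := flipGL F 4 3 h)
    (k := trans S.f₁ (S.alt₁ hε) x 1) (v := x) (φ := S.f₁ x) (O.swap.isom hmem) hk (by omega)
    (fun w => by rw [trans_apply, one_mul]) hx (fun h0 => hx (S.nd₁ x fun y => by rw [h0]; rfl))
    (Or.inl (by omega)) (by
      rw [← flipGL_kr, ← map_inv, ← map_mul, ← map_mul, flipGL_mem_kronecker]
      exact hm)
  exact kron_of_lineTo' O hε hR hq hh hx hy hl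

/-- No Siegel element with a singular pure axis. -/
theorem siegel_false {w : GL (Fin 4 × Fin 3) F} (hw : w ∈ H) {z : Fin 4 → F} {n : Fin 3 → F}
    {l : V F 4 3} (hz : z ≠ 0) (hn : n ≠ 0) (hnn : S.f₂ n n = 0) (hl : l ≠ 0)
    (hul : S.om (emb n z) l = 0)
    (hwa : ∀ v, act w v = v - S.om l v • emb n z - S.om (emb n z) v • l) : False := by
  have hf := S.sym₂ hε
  set u := emb n z with hu
  have huu : S.om u u = 0 := S.om_alt u
  have hlu : S.om l u = 0 := by rw [S.om_skew, hul, neg_zero]
  by_cases hA : ∃ a, S.f₁ z a = 0 ∧ S.f₂ (rho S a l) (rho S a l) ≠ 0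
  · obtain ⟨a, hza, hne⟩ := hA
    set g := colT S hε a
    have hgH : g ∈ H := colT_mem O hε a
    set l' := act g l with hl'
    have hgu : act g u = u := by
      rw [colT_apply, hu, rho_emb, S.skew₁ hε z a, hza, neg_zero, zero_smul, emb_zero_left,
        add_zero]
    have hul' : S.om u l' = 0 := by
      conv_lhs => rw [← hgu, hl', S.om_act (O.isom hgH), hul]
    have hll' : S.om l l' = -S.f₂ (rho S a l) (rho S a l) := by
      rw [hl', colT_apply, S.om_add_right, S.om_alt, zero_add, S.om_skew, om_emb_rho]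
    set w' := g * w * g⁻¹ with hw'
    have hw'a : ∀ v, act w' v = v - S.om l' v • u - S.om u v • l' := fun v => by
      have e1 : S.om l (act g⁻¹ v) = S.om l' v := (S.om_act_left (O.isom hgH) l v).symm
      have e2 : S.om u (act g⁻¹ v) = S.om u v := by
        conv_rhs => rw [← hgu, S.om_act_left (O.isom hgH)]
      rw [hw', act_mul, act_mul, hwa, map_sub, map_sub, map_smul, map_smul, act_act_inv, hgu, e1,
        e2, ← hl']
    have hw'H : w' ∈ H := mul_mem (mul_mem hgH hw) (inv_mem hgH)
    clear_value w'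
    set e : F := 2 * S.f₂ (rho S a l) (rho S a l)
    have hst : st S.om u e = w * w' * (w' * w)⁻¹ := by
      rw [eq_mul_inv_iff_mul_eq]
      refine gl_ext fun v => ?_
      rw [← act_apply, ← act_apply, act_mul, act_mul, act_mul, act_apply (st S.om u e),
        st_mulVec S.om_symplectic, hwa v, hw'a, hw'a v, hwa]
      simp only [S.om_sub_left, S.om_sub_right, S.om_smul_left, S.om_smul_right, huu, hul, hlu,
        hul', S.om_skew l' u, S.om_skew l' l, hll', S.om_skew v u, S.om_alt]
      match_scalars <;> ring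
    refine hR ⟨z, n, e, hz, hn, S.alt₁ hε z, hnn, mul_ne_zero S.two hne, ?_⟩
    rw [← hu, hst]
    exact mul_mem (mul_mem hw hw'H) (inv_mem (mul_mem hw'H hw))
  push Not at hA
  -- some column orthogonal to `z` is fixed pointwise
  set K := LinearMap.ker (S.f₁ z)
  let L : K →ₗ[F] (Fin 3 → F) :=
    { toFun := fun a => rho S a l
      map_add' := fun a a' => funext fun j => by simp [rho]
      map_smul' := fun c a => funext fun j => by simp [rho] }
  obtain ⟨a, ha, ha0⟩ : ∃ a : K, L a = 0 ∧ a ≠ 0 := by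
    by_contra hn'
    push Not at hn'
    have hinj : Function.Injective L := (injective_iff_map_eq_zero _).2 hn'
    obtain ⟨v, hv⟩ := hf.exists_aniso (by omega)
    have h1 : finrank F (LinearMap.range L) = finrank F K := LinearMap.finrank_range_of_inj hinj
    have h2 := LinearMap.finrank_range_add_finrank_ker (S.f₁ z)
    have h3 := (LinearMap.range (S.f₁ z)).finrank_le
    rw [finrank_fin_fun] at h2
    rw [finrank_self] at h3
    obtain ⟨a, ha⟩ := LinearMap.range_eq_top.1 (Submodule.eq_top_of_finrank_eq (S := LinearMap.range L) (le_antisymm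
      (Submodule.finrank_le _) (by rw [h1, finrank_fin_fun]; change 3 ≤ finrank F (LinearMap.ker _); omega))) v
    exact hv (by rw [← ha]; exact hA a a.2)
  have haz : S.f₁ z a.1 = 0 := a.2
  have hfix : ∀ s, act w (emb s a.1) = emb s a.1 := fun s => by
    have e1 : S.om u (emb s a.1) = 0 := by rw [hu, S.om_emb_emb, haz, zero_mul]
    have e2 : S.om l (emb s a.1) = 0 := by
      rw [S.om_skew, om_emb_rho, show rho S a.1 l = 0 from ha, map_zero, neg_zero]
    rw [hwa, e1, e2, zero_smul, zero_smul, sub_zero, sub_zero]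
  obtain ⟨g, k, hgk⟩ := kron_of_fix_column O hε hR hq hw (fun h0 => ha0 (Subtype.ext h0)) hfix
  obtain rfl : w = kr g k := Units.ext hgk
  have hone := eq_one_of_column (fun h0 => ha0 (Subtype.ext h0)) S hfix
    (Submodule.span F (Set.range ![u, l])) ((finrank_pair_le u l).trans_lt (by omega)) fun v => by
      rw [hwa, show v - S.om l v • u - S.om u v • l - v = -(S.om l v • u + S.om u v • l) by abel]
      exact neg_mem (add_mem (Submodule.smul_mem _ _ (Submodule.subset_span ⟨0, rfl⟩))
        (Submodule.smul_mem _ _ (Submodule.subset_span ⟨1, rfl⟩)))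
  have hz0 : ∀ v, S.om l v • u + S.om u v • l = 0 := fun v => by
    have := (hwa v).symm.trans (hone v)
    rwa [sub_sub, sub_eq_self] at this
  have hu0 : u ≠ 0 := fun h0 => hz (emb_injective hn (h0.trans (map_zero _).symm))
  obtain ⟨v, hv⟩ := (S.om_nd u hu0).2
  have h1 := hz0 v
  obtain ⟨c, hc⟩ : ∃ c : F, l = c • u := ⟨-(S.om u v)⁻¹ * S.om l v, by
    rw [← smul_smul, neg_smul, eq_neg_iff_add_eq_zero, ← inv_smul_smul₀ hv l,
      ← smul_add, add_comm, inv_smul_smul₀ hv, h1, smul_zero]⟩
  rw [hc, S.om_smul_left, smul_smul, ← add_smul, smul_eq_zero] at h1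
  have hc0 : c = 0 := by
    have := h1.resolve_right hu0
    have h2 : (2 : F) * (c * S.om u v) = 0 := by linear_combination this
    simpa [S.two, hv] using h2
  exact hl (by rw [hc, hc0, zero_smul])

/-- The commutator of the transvection of a column with a conjugate pairing to it with rank one. -/
theorem commutator_mem {h : GL (Fin 4 × Fin 3) F} (hh : h ∈ H) {x z : Fin 4 → F}
    {d d' : Fin 3 → F}
    (hP : ∀ t s, S.om (emb t z) (act h (emb s x)) = S.f₂ d t * S.f₂ d' s) :
    ∃ w ∈ H, ∀ v, act w v =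
      v - (S.om (act h (emb d' x)) v + S.f₂ d' d' * S.om (emb d z) v) • emb d z
        - S.om (emb d z) v • act h (emb d' x)
        + (S.f₂ d d * (S.om (act h (emb d' x)) v + S.f₂ d' d' * S.om (emb d z) v)) •
          act h (emb d' x) := by
  have hf := S.sym₂ hε
  have hhi := O.isom hh
  set T := colT S hε z with hT
  have hTH : T ∈ H := colT_mem O hε z
  set y := h * colT S hε x * h⁻¹ with hy
  have hyH : y ∈ H := mul_mem (mul_mem hh (colT_mem O hε x)) (inv_mem hh)
  have hya : ∀ v, act y v = v + act h (emb (rho S x (act h⁻¹ v)) x) := fun v => by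
    rw [hy, act_mul, act_mul, colT_apply, map_add, act_act_inv]
  set u := emb d z with hu
  set l := act h (emb d' x) with hl
  have hyz : ∀ t, act y (emb t z) = emb t z - S.f₂ d t • l := fun t => by
    rw [hya, sub_eq_add_neg, ← neg_smul, hl, ← map_smul, ← emb_smul_left]
    congr 2
    refine LinearMap.congr_fun (congrArg emb (S.eq₂ fun s => ?_)) x
    rw [← om_emb_rho, ← S.om_act hhi, act_act_inv, S.om_skew, hP, map_smul, smul_eq_mul,
      hf.symm s d']
    ring
  have hlz : rho S z l = S.f₂ d' d' • d := S.eq₂ fun t => by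
    rw [← om_emb_rho, hl, hP, map_smul, smul_eq_mul, hf.symm t d]
    ring
  refine ⟨y * T * y⁻¹ * T⁻¹, mul_mem (mul_mem (mul_mem hyH hTH) (inv_mem hyH)) (inv_mem hTH),
    fun v => ?_⟩
  obtain ⟨ξ, rfl⟩ : ∃ ξ, act T ξ = v := ⟨_, act_act_inv T v⟩
  clear_value y
  set η := act y⁻¹ ξ with hη
  have hρ : rho S z η = rho S z ξ - S.om l ξ • d := S.eq₂ fun t => by
    have e : S.om (emb t z) η = S.om (act y (emb t z)) ξ := by
      rw [hη, S.om_act_left (O.isom hyH)]
    rw [← om_emb_rho, e, hyz, S.om_sub_left, S.om_smul_left, om_emb_rho, map_sub, map_smul,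
      smul_eq_mul, hf.symm t d]
    ring
  have hUd : S.om u ξ = S.f₂ d (rho S z ξ) := by rw [hu, om_emb_rho]
  have eu : S.om u (act T ξ) = S.om u ξ := by
    rw [hT, colT_apply, S.om_add_right, hu, S.om_emb_emb, S.alt₁ hε, zero_mul, add_zero]
  have el : S.om l (act T ξ) = S.om l ξ - S.f₂ d' d' * S.om u ξ := by
    rw [hT, colT_apply, S.om_add_right, S.om_skew l (emb _ z), om_emb_rho, hlz, map_smul,
      smul_eq_mul, hf.symm d (rho S z ξ), ← hUd]
    ring
  rw [eu, el, act_mul, act_inv_act, act_mul, act_mul, ← hη, hT, colT_apply, colT_apply, map_add,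
    hη, act_act_inv,
    ← hη, hyz, hρ,
      emb_sub_left, emb_smul_left, ← hu, map_sub, map_smul, smul_eq_mul, ← hUd]
  match_scalars <;> ring

/-- A pairing of rank one with a singular vector gives a contradiction. -/
theorem rank_one_singular_false {h : GL (Fin 4 × Fin 3) F} (hh : h ∈ H) {x z : Fin 4 → F}
    (hx : x ≠ 0) (hz : z ≠ 0) {d d' : Fin 3 → F} (hd : d ≠ 0) (hd' : d' ≠ 0) (hdd : S.f₂ d d = 0)
    (hP : ∀ t s, S.om (emb t z) (act h (emb s x)) = S.f₂ d t * S.f₂ d' s) : False := by
  obtain ⟨w, hw, hwa⟩ := commutator_mem O hε hR hq hh hP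
  set u := emb d z with hu
  set l := act h (emb d' x) with hl
  have hul : S.om u l = 0 := by rw [hu, hl, hP, hdd, zero_mul]
  refine siegel_false O hε hR hq hw hz hd hdd (l := l + (S.f₂ d' d' / 2) • u) (fun h0 => ?_) ?_
    fun v => ?_
  · -- otherwise the axis lies in the column of `z`
    have hzl : ∀ t, S.f₂ d t * S.f₂ d' d' = 0 := fun t => by
      rw [← hP, ← hl, eq_neg_of_add_eq_zero_left h0, S.om_neg_right, S.om_smul_right, hu,
        S.om_emb_emb, S.alt₁ hε, zero_mul, mul_zero, neg_zero]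
    obtain ⟨t, ht⟩ : ∃ t, S.f₂ d t ≠ 0 := by
      by_contra hn
      push Not at hn
      exact hd (S.nd₂ d hn)
    rw [(mul_eq_zero.1 (hzl t)).resolve_left ht, zero_div, zero_smul, add_zero] at h0
    exact hd' (emb_right_inj hx ((act_injective h (h0.trans (map_zero _).symm)).trans
      (emb_zero_left x).symm))
  · rw [S.om_add_right, S.om_smul_right, hu, S.om_alt, mul_zero, add_zero, ← hu, hul]
  · rw [hwa, hdd, zero_mul, zero_smul, add_zero, S.om_add_left, S.om_smul_left]
    have := S.two
    match_scalars <;> field_simp <;> ring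

/-- A pairing of rank one gives a contradiction. -/
theorem rank_one_false {h : GL (Fin 4 × Fin 3) F} (hh : h ∈ H) {x z : Fin 4 → F}
    (hx : x ≠ 0) (hz : z ≠ 0) {d d' : Fin 3 → F} (hd : d ≠ 0) (hd' : d' ≠ 0)
    (hP : ∀ t s, S.om (emb t z) (act h (emb s x)) = S.f₂ d t * S.f₂ d' s) : False := by
  have hf := S.sym₂ hε
  by_cases hdd : S.f₂ d d = 0
  · exact rank_one_singular_false O hε hR hq hh hx hz hd hd' hdd hP
  obtain ⟨w, hw, hwa⟩ := commutator_mem O hε hR hq hh hP
  set u := emb d z with hu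
  set l := act h (emb d' x) with hl
  have hu0 : u ≠ 0 := fun h0 => hz (emb_injective hd (h0.trans (map_zero _).symm))
  have hlu : ∀ c : F, l ≠ c • u := fun c hc => by
    obtain ⟨s, hs⟩ : ∃ s, S.f₂ d' s ≠ 0 := by
      by_contra hn
      push Not at hn
      exact hd' (S.nd₂ d' hn)
    have h1 : S.om l (act h (emb s x)) = 0 := by
      rw [hl, S.om_act (O.isom hh), S.om_emb_emb, S.alt₁ hε, zero_mul]
    rw [hc, S.om_smul_left, hu, hP, mul_eq_zero] at h1
    have hc0 : c = 0 := h1.resolve_right (mul_ne_zero hdd hs)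
    rw [hc0, zero_smul] at hc
    exact hd' (emb_right_inj hx ((act_injective h (hc.trans (map_zero _).symm)).trans
      (emb_zero_left x).symm))
  -- a column orthogonal to `z` with singular coefficient
  set K := LinearMap.ker (S.f₁ z)
  let L : K →ₗ[F] (Fin 3 → F) :=
    { toFun := fun a => rho S a l
      map_add' := fun a a' => funext fun j => by simp [rho]
      map_smul' := fun c a => funext fun j => by simp [rho] }
  obtain ⟨a, ha0, haq⟩ : ∃ a : K, a ≠ 0 ∧ S.f₂ (L a) (L a) = 0 ∧ L a ≠ 0 := by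
    by_cases hinj : Function.Injective L
    · obtain ⟨n, hn0, hnn⟩ := hf.exists_singular le_rfl
      have h1 : finrank F (LinearMap.range L) = finrank F K := LinearMap.finrank_range_of_inj hinj
      have h2 := LinearMap.finrank_range_add_finrank_ker (S.f₁ z)
      have h3 := (LinearMap.range (S.f₁ z)).finrank_le
      rw [finrank_fin_fun] at h2
      rw [finrank_self] at h3
      obtain ⟨a, ha⟩ := LinearMap.range_eq_top.1 (Submodule.eq_top_of_finrank_eq
        (S := LinearMap.range L) (le_antisymm (Submodule.finrank_le _) (by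
          rw [h1, finrank_fin_fun]; change 3 ≤ finrank F (LinearMap.ker _); omega))) n
      exact ⟨a, fun h0 => hn0 (by rw [← ha, h0, map_zero]), by rw [ha]; exact hnn,
        by rw [ha]; exact hn0⟩
    rw [injective_iff_map_eq_zero] at hinj
    push Not at hinj
    obtain ⟨a, ha, ha0⟩ := hinj
    exfalso
    have ha1 : (a : Fin 4 → F) ≠ 0 := fun h0 => ha0 (Subtype.ext h0)
    have hfix : ∀ s, act w (emb s a.1) = emb s a.1 := fun s => by
      have e1 : S.om u (emb s a.1) = 0 := by
        rw [hu, S.om_emb_emb, show S.f₁ z a.1 = 0 from a.2, zero_mul]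
      have e2 : S.om l (emb s a.1) = 0 := by
        rw [S.om_skew, om_emb_rho, show rho S a.1 l = 0 from ha, map_zero, neg_zero]
      rw [hwa, e1, e2]
      simp
    obtain ⟨g, k, hgk⟩ := kron_of_fix_column O hε hR hq hw ha1 hfix
    obtain rfl : w = kr g k := Units.ext hgk
    have hone := eq_one_of_column ha1 S hfix (Submodule.span F (Set.range ![u, l]))
      ((finrank_pair_le u l).trans_lt (by omega)) fun v => by
        have hu' := Submodule.subset_span (R := F) (s := Set.range ![u, l]) ⟨0, rfl⟩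
        have hl' := Submodule.subset_span (R := F) (s := Set.range ![u, l]) ⟨1, rfl⟩
        rw [hwa, show ∀ p q r : V F 4 3, v - p - q + r - v = -p - q + r from fun p q r => by abel]
        exact add_mem (sub_mem (neg_mem (Submodule.smul_mem _ _ hu')) (Submodule.smul_mem _ _ hl'))
          (Submodule.smul_mem _ _ hl')
    obtain ⟨v, hv⟩ := (S.om_nd u hu0).2
    have h1 := (hwa v).symm.trans (hone v)
    set M := S.om l v + S.f₂ d' d' * S.om u v
    have h2 : (S.f₂ d d * M - S.om u v) • l = M • u := by linear_combination (norm := module) h1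
    by_cases hc : S.f₂ d d * M - S.om u v = 0
    · rw [hc, zero_smul, eq_comm, smul_eq_zero] at h2
      rw [h2.resolve_right hu0, mul_zero, zero_sub, neg_eq_zero] at hc
      exact hv hc
    · exact hlu _ (by rw [← inv_smul_smul₀ hc l, h2, smul_smul])
  obtain ⟨hnn, hn0⟩ := haq
  have ha1 : (a : Fin 4 → F) ≠ 0 := fun h0 => ha0 (Subtype.ext h0)
  refine rank_one_singular_false O hε hR hq hw ha1 ha1 (d := (-S.f₂ d d) • L a) (d' := L a)
    (smul_ne_zero (neg_ne_zero.2 hdd) hn0) hn0 (by simp [hnn]) fun t s => ?_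
  have e1 : ∀ s, S.om u (emb s a.1) = 0 := fun s => by
    rw [hu, S.om_emb_emb, show S.f₁ z a.1 = 0 from a.2, zero_mul]
  have e2 : ∀ s, S.om l (emb s a.1) = -S.f₂ (L a) s := fun s => by
    rw [S.om_skew, om_emb_rho, hf.symm]; rfl
  rw [hwa, e1 s, e2 s]
  simp only [mul_zero, add_zero, zero_smul, sub_zero, S.om_add_right, S.om_sub_right,
    S.om_smul_right, S.om_emb_emb, S.alt₁ hε, zero_mul, S.om_skew (emb t a.1) u,
    S.om_skew (emb t a.1) l, e1, e2, map_smul, LinearMap.smul_apply, smul_eq_mul]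
  ring

/-- An element pairing two columns with rank at most one lies in the stabiliser. -/
theorem kron_of_pairing {h : GL (Fin 4 × Fin 3) F} (hh : h ∈ H) {x z : Fin 4 → F}
    (hx : x ≠ 0) (hz : z ≠ 0) {d d' : Fin 3 → F}
    (hP : ∀ t s, S.om (emb t z) (act h (emb s x)) = S.f₂ d t * S.f₂ d' s) :
    h ∈ Cfsg.Geo.kroneckerSubgroup 4 3 F := by
  have h0 : ∀ t s, S.om (emb t z) (act h (emb s x)) = 0 := fun t s => by
    rcases eq_or_ne d 0 with rfl | hd
    · rw [hP, map_zero, LinearMap.zero_apply, zero_mul]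
    rcases eq_or_ne d' 0 with rfl | hd'
    · rw [hP, map_zero, LinearMap.zero_apply, mul_zero]
    exact (rank_one_false O hε hR hq hh hx hz hd hd' hP).elim
  refine kron_of_conj O hε hR hq hh hx (kron_of_fix_column O hε hR hq
    (mul_mem (mul_mem hh (colT_mem O hε x)) (inv_mem hh)) hz fun t => ?_)
  have e : rho S x (act h⁻¹ (emb t z)) = 0 := S.eq₂ fun s => by
    rw [← om_emb_rho, ← S.om_act (O.isom hh), act_act_inv, S.om_skew, h0, map_zero, neg_zero]
  rw [act_mul, act_mul, colT_apply, e, emb_zero_left, add_zero, act_act_inv]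

end Cfsg.Agent.SpGeo11.Tensor
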