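import Cfsg.Agent.SpGeo11.TensorInvol

/-!
The tensor stabiliser of `Sp₄ ⊗ O₃` has no proper overgroup without root elements (helper11).
-/

set_option autoImplicit false
set_option linter.unusedSectionVars false
set_option linter.unusedSimpArgs false

namespace Cfsg.Agent.SpGeo11.Tensor

open Matrix Cfsg.Agent.MaxSub Cfsg.Agent.TensorMax Cfsg.Agent.TensorInv Module

variable {F : Type*} [Field F]

/-- An involutive isometry of an alternating form on `F⁴` with two eigenplanes. -/
theorem exists_planes (S : TForm F 4 3) (hε : S.ε = -1) :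
    ∃ (g : GL (Fin 4) F) (e e' f' : Fin 4 → F), (∀ y y', S.f₁ (act g y) (act g y') = S.f₁ y y') ∧
      (∀ y, act g (act g y) = y) ∧ e ≠ 0 ∧ act g e = e ∧ act g e' = -e' ∧ act g f' = -f' ∧
      S.f₁ e' f' ≠ 0 := by
  have halt := S.alt₁ hε
  have hsk := S.skew₁ hε
  set e : Fin 4 → F := fun _ => 1
  have he : e ≠ 0 := fun h0 => one_ne_zero (congrFun h0 0)
  obtain ⟨f₀, hf₀, -⟩ := exists_both S.nd₁ he he
  set f := (S.f₁ e f₀)⁻¹ • f₀
  have hef : S.f₁ e f = 1 := by simp [f, inv_mul_cancel₀ hf₀]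
  have hfe : S.f₁ f e = -1 := by rw [hsk e f, hef]
  clear_value f
  let P : (Fin 4 → F) →ₗ[F] (Fin 4 → F) := (S.f₁ e).smulRight f - (S.f₁ f).smulRight e
  have hP : ∀ y, P y = S.f₁ e y • f - S.f₁ f y • e := fun y => rfl
  let G : (Fin 4 → F) →ₗ[F] (Fin 4 → F) := (2 : F) • P - LinearMap.id
  have hG : ∀ y, G y = (2 : F) • P y - y := fun y => rfl
  have hPP : ∀ y, P (P y) = P y := fun y => by
    simp [hP, hef, hfe, halt]
  have hGG : ∀ y, G (G y) = y := fun y => by
    rw [hG, hG, map_sub, map_smul, hPP]; module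
  let g : GL (Fin 4) F := mkGL G G hGG hGG
  have hg : ∀ y, act g y = G y := fun y => mkGL_mulVec G G hGG hGG y
  let L : (Fin 4 → F) →ₗ[F] (Fin 2 → F) := LinearMap.pi ![S.f₁ e, S.f₁ f]
  obtain ⟨e', he', he'0⟩ : ∃ e' ∈ LinearMap.ker L, e' ≠ 0 := by
    refine Submodule.exists_mem_ne_zero_of_ne_bot fun hb => ?_
    have h1 := LinearMap.finrank_range_add_finrank_ker L
    have h2 := (LinearMap.range L).finrank_le
    rw [hb, finrank_bot, finrank_fin_fun] at h1
    rw [finrank_fin_fun] at h2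
    omega
  have he'1 : S.f₁ e e' = 0 := congrFun (LinearMap.mem_ker.1 he') 0
  have he'2 : S.f₁ f e' = 0 := congrFun (LinearMap.mem_ker.1 he') 1
  obtain ⟨f₁, hf₁, -⟩ := exists_both S.nd₁ he'0 he'0
  refine ⟨g, e, e', f₁ - P f₁, fun y y' => ?_, fun y => by rw [hg, hg, hGG], he, ?_, ?_, ?_, ?_⟩
  · rw [hg, hg, hG, hG, hP, hP]
    simp only [map_sub, map_smul, LinearMap.sub_apply, LinearMap.smul_apply, smul_eq_mul, hef,
      hfe, halt, hsk e y, hsk f y]
    ring
  · rw [hg, hG, hP, halt, hfe]; module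
  · rw [hg, hG, hP, he'1, he'2]; module
  · rw [hg, hG, map_sub, hPP]; module
  · rw [map_sub, hP, map_sub, map_smul, map_smul, hsk e e', hsk f e', he'1, he'2]
    simpa using hf₁

variable [Finite F] {S : TForm F 4 3} {H : Subgroup (GL (Fin 4 × Fin 3) F)}

/-- There is no element outside the tensor stabiliser. -/
theorem le_kronecker_four (O : Over S H) (hε : S.ε = -1) (hR : ¬ Root S H)
    (hq : ∃ t : F, t ≠ 0 ∧ t ^ 2 ≠ 1) : H ≤ Cfsg.Geo.kroneckerSubgroup 4 3 F := by
  intro h hh
  have hf := S.sym₂ hε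
  obtain ⟨g, e, e', f', hgf, hgg, he, hge, hge', hgf', he'f'⟩ := exists_planes S hε
  obtain ⟨v, hv⟩ := hf.exists_aniso (by omega)
  set i := kr g (1 : GL (Fin 3) F) with hidef
  have hiH : i ∈ H := O.left hgf
  have hi : ∀ t y, act i (emb t y) = emb t (act g y) := fun t y => by
    rw [hidef, act_kr, act_one]
  have hi2 : ∀ z, act i (act i z) = z := fun z => by
    refine ext_emb (f := act i ∘ₗ act i) (g := LinearMap.id) (fun t y => ?_) z
    rw [LinearMap.comp_apply, hi, hi, hgg, LinearMap.id_apply]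
  have hisq : i * i = 1 := gl_ext fun z => by
    show act (i * i) z = act (1 : GL (Fin 4 × Fin 3) F) z
    rw [act_mul, hi2, act_one]
  set j := h * xr S v * h⁻¹ with hjdef
  have hj : IsX S H j := isX_conj hh hv
  have hjH := hj.mem O hε
  set r := i * j with hr
  -- an eigenspace of `i` of dimension six meets the fixed space of `j`
  have key : ∀ (L : (Fin 3 → F) × (Fin 3 → F) →ₗ[F] V F 4 3), Function.Injective L →
      ∃ w ∈ LinearMap.range L, w ≠ 0 ∧ act j w = w := by
    intro L hL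
    obtain ⟨p, hp, hp0⟩ : ∃ p ∈ LinearMap.ker ((act j - LinearMap.id) ∘ₗ L), p ≠ 0 := by
      refine Submodule.exists_mem_ne_zero_of_ne_bot fun hb => ?_
      have h1 := LinearMap.finrank_range_add_finrank_ker ((act j - LinearMap.id) ∘ₗ L)
      rw [hb, finrank_bot, Module.finrank_prod, finrank_fin_fun] at h1
      have h2 := (Submodule.finrank_mono (LinearMap.range_comp_le_range L _)).trans hj.moved
      omega
    exact ⟨L p, ⟨p, rfl⟩, fun h0 => hp0 (hL (h0.trans (map_zero _).symm)),
      sub_eq_zero.1 (LinearMap.mem_ker.1 hp)⟩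
  have hinj : ∀ {x x' : Fin 4 → F}, x ≠ 0 → x' ∉ Submodule.span F {x} →
      Function.Injective ((embR (b := 3) x).coprod (embR x')) := by
    intro x x' hx hx'
    refine (injective_iff_map_eq_zero _).2 fun p hp => ?_
    have e : ∀ d, S.f₂ d p.1 • x + S.f₂ d p.2 • x' = 0 := fun d => by
      have := congrArg (S.pi d) hp
      rw [LinearMap.coprod_apply, map_add, map_zero, show embR x p.1 = emb p.1 x from rfl,
        show embR x' p.2 = emb p.2 x' from rfl, S.pi_emb, S.pi_emb] at this
      exact this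
    have h2 : ∀ d, S.f₂ d p.2 = 0 := fun d => by
      by_contra hd
      refine hx' (Submodule.mem_span_singleton.2 ⟨-(S.f₂ d p.2)⁻¹ * S.f₂ d p.1, ?_⟩)
      rw [← smul_smul, neg_smul, neg_eq_iff_eq_neg, inv_smul_eq_iff₀ hd]
      linear_combination (norm := module) e d
    refine Prod.ext (S.nd₂' fun d => ?_) (S.nd₂' h2)
    have := e d
    rwa [h2, zero_smul, add_zero, smul_eq_zero, or_iff_left hx] at this
  have he'0 : e' ≠ 0 := fun h0 => he'f' (by rw [h0]; simp)
  obtain ⟨w, hw, hw0, hjw⟩ := key _ (hinj he'0 (x' := f') fun hm => he'f' (by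
    obtain ⟨c, rfl⟩ := Submodule.mem_span_singleton.1 hm
    simp [S.alt₁ hε]))
  have hiw : act i w = -w := by
    obtain ⟨p, rfl⟩ := hw
    rw [LinearMap.coprod_apply, map_add, show embR e' p.1 = emb p.1 e' from rfl,
      show embR f' p.2 = emb p.2 f' from rfl, hi, hi, hge', hgf', map_neg, map_neg, neg_add]
  obtain ⟨f₀, hf₀, -⟩ := exists_both S.nd₁ he he
  set f := f₀ + act g f₀ with hfdef
  have hgf₁ : act g f = f := by rw [hfdef, map_add, hgg, add_comm]
  obtain ⟨w', hw', hw'0, hjw'⟩ := key _ (hinj he (x' := f) fun hm => hf₀ (by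
    obtain ⟨c, hc⟩ := Submodule.mem_span_singleton.1 hm
    have h1 : S.f₁ e f = 0 := by rw [← hc]; simp [S.alt₁ hε]
    rw [hfdef, map_add] at h1
    have h2 : S.f₁ e (act g f₀) = S.f₁ e f₀ := by
      conv_rhs => rw [← hgf, hge]
    rw [h2] at h1
    exact (mul_eq_zero.1 (show (2 : F) * S.f₁ e f₀ = 0 by linear_combination h1)).resolve_left
      S.two))
  have hiw' : act i w' = w' := by
    obtain ⟨p, rfl⟩ := hw'
    rw [LinearMap.coprod_apply, map_add, show embR e p.1 = emb p.1 e from rfl,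
      show embR f p.2 = emb p.2 f from rfl, hi, hi, hge, hgf₁]
  have hrw : ∀ k : ℕ, act (r ^ k) w = (-1 : F) ^ k • w := by
    intro k
    induction k with
    | zero => rw [pow_zero, pow_zero, act_one, one_smul]
    | succ k ih =>
      rw [pow_succ', act_mul, ih, map_smul, hr, act_mul, hjw, hiw, pow_succ, mul_neg_one,
        neg_smul, smul_neg]
  have hrw' : ∀ k : ℕ, act (r ^ k) w' = w' := by
    intro k
    induction k with
    | zero => rw [pow_zero, act_one]
    | succ k ih => rw [pow_succ', act_mul, ih, hr, act_mul, hjw', hiw']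
  have hn0 : 0 < orderOf r := orderOf_pos r
  obtain ⟨k₂, hk₂⟩ : Even (orderOf r) := by
    rcases Nat.even_or_odd (orderOf r) with ho | ho
    · exact ho
    have e := hrw (orderOf r)
    rw [pow_orderOf_eq_one, act_one, ho.neg_one_pow, neg_one_smul] at e
    refine absurd ?_ hw0
    exact (smul_eq_zero.1 (show (2 : F) • w = 0 by
      linear_combination (norm := module) e)).resolve_left S.two
  set z := r ^ k₂ with hzdef
  have hzz : z * z = 1 := by rw [hzdef, ← pow_add, ← hk₂, pow_orderOf_eq_one]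
  have hz1 : z ≠ 1 := pow_ne_one_of_lt_orderOf (by omega) (by omega)
  have hzinv' : (r⁻¹) ^ k₂ = z := by rw [inv_pow, ← hzdef, inv_eq_of_mul_eq_one_right hzz]
  have hzH : z ∈ H := pow_mem (mul_mem hiH hjH) _
  have hzi : i * z = z * i := by
    have hs : SemiconjBy i r r⁻¹ := by
      show i * r = r⁻¹ * i
      rw [hr, _root_.mul_inv_rev, mul_assoc, inv_mul_cancel, mul_one, hj.inv_eq, ← mul_assoc, hisq,
        one_mul]
    have := (hs.pow_right k₂).eq
    rwa [hzinv'] at this
  have hzj : j * z = z * j := by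
    have hs : SemiconjBy j r r⁻¹ := by
      show j * r = r⁻¹ * j
      rw [hr, _root_.mul_inv_rev, hj.inv_eq, inv_eq_of_mul_eq_one_right hisq]
      group
    have := (hs.pow_right k₂).eq
    rwa [hzinv'] at this
  have hzk : z ∈ Cfsg.Geo.kroneckerSubgroup 4 3 F := by
    refine kron_of_comm_invo O hε hR hq hzH (g := g) (k := 1) (O.isom hiH) hi2 ⟨w, ?_⟩ ⟨w', ?_⟩
      fun x => by rw [← act_mul, ← act_mul, hzi]
    · rw [hiw]
      exact fun h0 => hw0 ((smul_eq_zero.1 (show (2 : F) • w = 0 by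
        linear_combination (norm := module) -h0)).resolve_left S.two)
    · rw [hiw']
      exact fun h0 => hw'0 ((smul_eq_zero.1 (show (2 : F) • w' = 0 by
        linear_combination (norm := module) h0)).resolve_left S.two)
  obtain ⟨g₁, k₁, hgk⟩ := hzk
  have hgk' : z = kr g₁ k₁ := Units.ext hgk
  have hjk : j ∈ Cfsg.Geo.kroneckerSubgroup 4 3 F := by
    refine kron_of_comm_invo O hε hR hq hjH (g := g₁) (k := k₁) (hgk' ▸ O.isom hzH)
      (fun x => ?_) ?_ ⟨w', ?_⟩ fun x => ?_
    · rw [← hgk', ← act_mul, hzz, act_one]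
    · by_contra hn
      push Not at hn
      exact hz1 (hgk' ▸ gl_ext fun x => (hn x).trans (act_one x).symm)
    · rw [← hgk', hzdef, hrw']
      exact fun h0 => hw'0 ((smul_eq_zero.1 (show (2 : F) • w' = 0 by
        linear_combination (norm := module) h0)).resolve_left S.two)
    · rw [← hgk', ← act_mul, ← act_mul, hzj]
  obtain ⟨v', hv', hl⟩ := lineTo_of_conj (S := S) (v := v) (φ := -(2 / S.f₂ v v) • S.f₂ v) (O.isom hh)
    (O.isom (xr_mem O hε hv)) (by omega) (fun x => by
      rw [refl_apply]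
      simp only [LinearMap.smul_apply, smul_eq_mul, neg_mul, neg_smul, div_mul_eq_mul_div,
        sub_eq_add_neg])
    (fun h0 => by simp [h0] at hv) (fun h0 => by
      have := LinearMap.congr_fun h0 v
      simp [div_mul_cancel₀ _ hv] at this
      exact S.two this)
    (Or.inr (Or.inl ⟨rfl, le_rfl⟩)) hjk
  exact kron_of_line O hε hR hq hh hv hv' hl

end Cfsg.Agent.SpGeo11.Tensor
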