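import Cfsg.Agent.SpGeo11.TensorFour
import Cfsg.Agent.ClMax99.AltSim

/-!
The centraliser of a non-trivial involution of the stabiliser of `Sp₄ ⊗ O₃` inside a group without
root elements lies in the stabiliser (helper11).
-/

set_option autoImplicit false
set_option linter.unusedSectionVars false
set_option linter.unusedSimpArgs false

namespace Cfsg.Agent.SpGeo11.Tensor

open Matrix Cfsg.Agent.MaxSub Cfsg.Agent.TensorMax Cfsg.Agent.TensorInv Module

variable {F : Type*} [Field F] {a b : ℕ}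

/-- An orthogonal frame starting at an anisotropic vector. -/
theorem exists_frame {f : (Fin 3 → F) →ₗ[F] (Fin 3 → F) →ₗ[F] F} (hf : TensorInv.Sym f)
    {v : Fin 3 → F} (hv : f v v ≠ 0) : ∃ e₁ e₂, Fam f ![v, e₁, e₂] := by
  obtain ⟨e₁, h1, e1⟩ := hf.exists_aniso_fam (fam_one hv) (by omega)
  have h01 : f v e₁ = 0 := by simpa using e1 0
  obtain ⟨e₂, h2, e2⟩ := hf.exists_aniso_fam (hf.fam_two hv h1 h01) (by omega)
  exact ⟨e₁, e₂, hf.fam_three hv h1 h2 h01 (by simpa using e2 0) (by simpa using e2 1)⟩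

/-- Expansion along an orthogonal frame. -/
theorem expand {f : (Fin 3 → F) →ₗ[F] (Fin 3 → F) →ₗ[F] F} (hf : TensorInv.Sym f)
    {v e₁ e₂ : Fin 3 → F} (hF : Fam f ![v, e₁, e₂]) (t : Fin 3 → F) :
    t = (f v t / f v v) • v + (f e₁ t / f e₁ e₁) • e₁ + (f e₂ t / f e₂ e₂) • e₂ := by
  have h0 := hF.aniso 0
  have h1 := hF.aniso 1
  have h2 := hF.aniso 2
  have a01 : f v e₁ = 0 := hF.orth 0 1 (by decide)
  have a02 : f v e₂ = 0 := hF.orth 0 2 (by decide)
  have a10 : f e₁ v = 0 := hF.orth 1 0 (by decide)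
  have a12 : f e₁ e₂ = 0 := hF.orth 1 2 (by decide)
  have a20 : f e₂ v = 0 := hF.orth 2 0 (by decide)
  have a21 : f e₂ e₁ = 0 := hF.orth 2 1 (by decide)
  simp only [cons_val_zero, cons_val_one, cons_val_two, head_cons, tail_cons] at h0 h1 h2
  refine sub_eq_zero.1 (hf.eq_zero_of_basis hF fun i => ?_)
  fin_cases i <;>
    simp [a01, a02, a10, a12, a20, a21, h0, h1, h2]

variable [Finite F] {S : TForm F 4 3} {H : Subgroup (GL (Fin 4 × Fin 3) F)}
  (O : Over S H) (hε : S.ε = -1) (hR : ¬ Root S H) (hq : ∃ t : F, t ≠ 0 ∧ t ^ 2 ≠ 1)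

/-- A bilinear pairing of two columns through an element. -/
def pairMap (S : TForm F a b) (h : GL (Fin a × Fin b) F) (x z : Fin a → F) :
    (Fin b → F) →ₗ[F] (Fin b → F) →ₗ[F] F :=
  LinearMap.mk₂ F (fun t s => S.om (emb t z) (act h (emb s x)))
    (fun t t' s => by simp only [emb_add_left, TForm.om_add_left])
    (fun c t s => by simp only [emb_smul_left, TForm.om_smul_left, smul_eq_mul])
    (fun t s s' => by simp only [emb_add_left, map_add, TForm.om_add_right])
    (fun c t s => by simp only [emb_smul_left, map_smul, TForm.om_smul_right, smul_eq_mul])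

theorem pairMap_apply (S : TForm F a b) (h : GL (Fin a × Fin b) F) (x z : Fin a → F)
    (t s : Fin b → F) : pairMap S h x z t s = S.om (emb t z) (act h (emb s x)) := rfl


/-- Opposite eigenvectors of an isometry are orthogonal. -/
theorem om_sign {i : GL (Fin 4 × Fin 3) F} (hi : i ∈ isom S.om) {A B : V F 4 3} {σ τ : F}
    (hA : act i A = σ • A) (hB : act i B = τ • B) (hστ : σ * τ ≠ 1) : S.om A B = 0 := by
  have h := S.om_act hi A B
  rw [hA, hB, S.om_smul_left, S.om_smul_right] at h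
  exact (mul_eq_zero.1 (show (σ * τ - 1) * S.om A B = 0 by linear_combination h)).resolve_left
    (sub_ne_zero.2 hστ)

include O hε hR hq

/-- An element carrying an anisotropic line to a line lies in the stabiliser. -/
theorem kron_of_line {h : GL (Fin 4 × Fin 3) F} (hh : h ∈ H) {v v' : Fin 3 → F}
    (hv : S.f₂ v v ≠ 0) (hv' : v' ≠ 0) (hl : LineTo h v v') :
    h ∈ Cfsg.Geo.kroneckerSubgroup 4 3 F := by
  have hf := S.sym₂ hε
  have hv0 : v ≠ 0 := fun h0 => by simp [h0] at hv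
  have hsurj : LinearMap.range (act h ∘ₗ emb (a := 4) v) = LinearMap.range (emb (a := 4) v') := by
    refine Submodule.eq_of_le_of_finrank_eq ?_ ?_
    · rintro _ ⟨x, rfl⟩
      obtain ⟨y, hy⟩ := hl x
      exact ⟨y, hy.symm⟩
    · rw [LinearMap.finrank_range_of_inj (show Function.Injective (act h ∘ₗ emb (a := 4) v) from
          (act_injective h).comp (emb_injective hv0)),
        LinearMap.finrank_range_of_inj (emb_injective hv')]
  have hv'q : S.f₂ v' v' ≠ 0 := by
    intro hc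
    refine emb_injective (a := 4) hv0 |>.ne (a₁ := (fun _ => (1 : F))) (a₂ := 0)
      (fun h0 => one_ne_zero (congrFun h0 0)) ?_
    rw [map_zero]
    by_contra h0
    obtain ⟨x', hx'⟩ := (S.om_nd _ h0).2
    obtain ⟨y, hy⟩ := hl (fun _ => 1)
    have h3 : ∀ p, S.om (act h (emb v (fun _ => 1))) (act h (emb v p)) = 0 := fun p => by
      obtain ⟨y', hy'⟩ := hl p
      rw [act_apply, act_apply, hy, hy', S.om_emb_emb, hc, mul_zero]
    obtain ⟨p, hp, -⟩ := exists_both S.nd₁ (u := fun _ => (1 : F)) (v := fun _ => 1)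
      (fun h' => one_ne_zero (congrFun h' 0)) (fun h' => one_ne_zero (congrFun h' 0))
    have := h3 p
    rw [S.om_act (O.isom hh), S.om_emb_emb] at this
    exact mul_ne_zero hp hv this
  obtain ⟨e₁, e₂, hF⟩ := exists_frame hf hv'q
  obtain ⟨s₁, s₂, hE⟩ := exists_frame hf hv
  have hv'e : S.f₂ e₁ v' = 0 := hF.orth 1 0 (by decide)
  have hs₁ : S.f₂ v s₁ = 0 := hE.orth 0 1 (by decide)
  have hs₂ : S.f₂ v s₂ = 0 := hE.orth 0 2 (by decide)
  set x : Fin 4 → F := fun _ => 1
  have hx : x ≠ 0 := fun h0 => one_ne_zero (congrFun h0 0)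
  obtain ⟨Y, hY⟩ := hl x
  rw [← act_apply] at hY
  let L : (Fin 4 → F) →ₗ[F] (Fin 3 → F) :=
    { toFun := fun z => ![S.f₁ z Y, pairMap S h x z e₁ s₁, pairMap S h x z e₁ s₂]
      map_add' := fun z z' => by
        funext i; fin_cases i <;> simp [pairMap_apply, TForm.om_add_left]
      map_smul' := fun c z => by
        funext i; fin_cases i <;> simp [pairMap_apply, TForm.om_smul_left] }
  obtain ⟨z, hz, hz0⟩ : ∃ z ∈ LinearMap.ker L, z ≠ 0 := by
    refine Submodule.exists_mem_ne_zero_of_ne_bot fun hb => ?_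
    have h1 := LinearMap.finrank_range_add_finrank_ker L
    have h2 := (LinearMap.range L).finrank_le
    rw [hb, finrank_bot, finrank_fin_fun] at h1
    rw [finrank_fin_fun] at h2
    omega
  have z0 : S.f₁ z Y = 0 := congrFun (LinearMap.mem_ker.1 hz) 0
  have z1 : pairMap S h x z e₁ s₁ = 0 := congrFun (LinearMap.mem_ker.1 hz) 1
  have z2 : pairMap S h x z e₁ s₂ = 0 := congrFun (LinearMap.mem_ker.1 hz) 2
  have q0 : ∀ s, S.f₂ v s = 0 → pairMap S h x z v' s = 0 := fun s hs => by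
    obtain ⟨y, hy⟩ : emb v' z ∈ LinearMap.range (act h ∘ₗ emb v) := hsurj ▸ ⟨z, rfl⟩
    rw [pairMap_apply, ← hy, LinearMap.comp_apply, S.om_act (O.isom hh), S.om_emb_emb, hs,
      mul_zero]
  have hY' : ∀ t, pairMap S h x z t v = S.f₁ z Y * S.f₂ t v' := fun t => by
    rw [pairMap_apply, hY, S.om_emb_emb]
  have hzero : ∀ t, t = v' ∨ t = e₁ → ∀ s, pairMap S h x z t s = 0 := by
    intro t ht s
    rw [expand hf hE s, map_add, map_add, map_smul, map_smul, map_smul, hY']
    rcases ht with ht | ht <;> subst ht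
    · rw [q0 _ hs₁, q0 _ hs₂, z0]; simp
    · rw [z1, z2, hv'e]; simp
  obtain ⟨d', hd'⟩ := S.exists_rep₂ (pairMap S h x z e₂)
  refine kron_of_pairing O hε hR hq hh hx hz0 (d := (S.f₂ e₂ e₂)⁻¹ • e₂) (d' := d') fun t s => ?_
  rw [← pairMap_apply, hd']
  conv_lhs => rw [expand hf hF t]
  have e2v : S.f₂ e₂ v' = 0 := hF.orth 2 0 (by decide)
  have e21 : S.f₂ e₂ e₁ = 0 := hF.orth 2 1 (by decide)
  have e22 : S.f₂ e₂ e₂ ≠ 0 := hF.aniso 2
  simp [hzero v' (Or.inl rfl), hzero e₁ (Or.inr rfl), div_eq_mul_inv]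
  ring_nf
  simp

/-- The centraliser of an involution of the symplectic factor times a half-turn. -/
theorem kron_of_comm_mixed {h : GL (Fin 4 × Fin 3) F} (hh : h ∈ H) {i : GL (Fin 4 × Fin 3) F}
    (hi : i ∈ isom S.om) (hc : ∀ v, act h (act i v) = act i (act h v))
    (G : (Fin 4 → F) →ₗ[F] (Fin 4 → F)) (hG : ∀ y, G (G y) = y)
    (hGf : ∀ y y', S.f₁ (G y) (G y') = S.f₁ y y') {x x' : Fin 4 → F} (hx : x ≠ 0) (hGx : G x = x)
    (hx' : x' ≠ 0) (hGx' : G x' = -x') {v e₁ e₂ : Fin 3 → F} (hF : Fam S.f₂ ![v, e₁, e₂])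
    (hiv : ∀ y, act i (emb v y) = emb v (G y)) (hi₁ : ∀ y, act i (emb e₁ y) = -emb e₁ (G y))
    (hi₂ : ∀ y, act i (emb e₂ y) = -emb e₂ (G y)) :
    h ∈ Cfsg.Geo.kroneckerSubgroup 4 3 F := by
  have hf := S.sym₂ hε
  have h2 := S.two
  have hne : (1 : F) * -1 ≠ 1 := fun h0 => h2 (by linear_combination -h0)
  have hne' : (-1 : F) * 1 ≠ 1 := fun h0 => h2 (by linear_combination -h0)
  set p := S.pi v (act h (emb v x))
  -- a vector of the first eigenspace orthogonal to `p`
  obtain ⟨y₀, hy₀, -⟩ := exists_both S.nd₁ hx hx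
  set y₁ := y₀ + G y₀ with hy₁
  have hGy₁ : G y₁ = y₁ := by rw [hy₁, map_add, hG, add_comm]
  have hxy : S.f₁ x y₁ ≠ 0 := by
    rw [hy₁, map_add, ← hGf x y₀, hGx]
    have e : S.f₁ x (G y₀) = S.f₁ x y₀ := by
      conv_rhs => rw [← hGf, hGx]
    rw [e, ← two_mul]
    exact mul_ne_zero h2 hy₀
  obtain ⟨z, hz, hGz, hzp⟩ : ∃ z, z ≠ 0 ∧ G z = z ∧ S.f₁ z p = 0 := by
    by_cases hy : S.f₁ y₁ p = 0
    · exact ⟨y₁, fun h0 => hxy (by rw [h0, map_zero]), hGy₁, hy⟩
    refine ⟨x - (S.f₁ x p / S.f₁ y₁ p) • y₁, fun h0 => hxy ?_, by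
      rw [map_sub, map_smul, hGx, hGy₁], by simp [div_mul_cancel₀ _ hy]⟩
    have e := congrArg (S.f₁ x) h0
    rw [map_sub, map_smul, map_zero, S.alt₁ hε, zero_sub, neg_eq_zero, smul_eq_mul,
      mul_eq_zero] at e
    rcases e with e | e
    · rw [e, zero_smul, sub_zero] at h0
      exact absurd h0 hx
    · exact e
  have hzx' : S.f₁ z x' = 0 := by
    have h := hGf z x'
    rw [hGz, hGx', map_neg] at h
    exact (mul_eq_zero.1 (show (2 : F) * S.f₁ z x' = 0 by linear_combination -h)).resolve_left h2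
  have hh' : ∀ {w : V F 4 3} {σ : F}, act i w = σ • w → act i (act h w) = σ • act h w := by
    intro w σ hw
    rw [← hc, hw, map_smul]
  have sv : ∀ {y}, G y = y → act i (emb v y) = (1 : F) • emb v y := fun {y} hy => by
    rw [hiv, hy, one_smul]
  have s1 : ∀ {y}, G y = y → act i (emb e₁ y) = (-1 : F) • emb e₁ y := fun {y} hy => by
    rw [hi₁, hy, neg_one_smul]
  have s2 : ∀ {y}, G y = y → act i (emb e₂ y) = (-1 : F) • emb e₂ y := fun {y} hy => by
    rw [hi₂, hy, neg_one_smul]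
  have t1 : act i (emb e₁ x') = (1 : F) • emb e₁ x' := by
    rw [hi₁, hGx', map_neg, neg_neg, one_smul]
  have t2 : act i (emb e₂ x') = (1 : F) • emb e₂ x' := by
    rw [hi₂, hGx', map_neg, neg_neg, one_smul]
  set y := h * colT S hε x * h⁻¹ with hy
  have hyH : y ∈ H := mul_mem (mul_mem hh (colT_mem O hε x)) (inv_mem hh)
  refine kron_of_conj O hε hR hq hh hx ?_
  rw [← hy]
  have hPe : ∀ e, act i (emb e x') = (1 : F) • emb e x' → ∀ t, pairMap S y x' z t e = 0 := by
    intro e he t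
    set r := rho S x (act h⁻¹ (emb e x'))
    have hr : ∀ q, act i (emb q x) = (-1 : F) • emb q x → S.f₂ q r = 0 := fun q hq' => by
      rw [← om_emb_rho, ← S.om_act (O.isom hh), act_act_inv]
      exact om_sign hi (hh' hq') he hne'
    have hrv : r = (S.f₂ v r / S.f₂ v v) • v := by
      conv_lhs => rw [expand hf hF r, hr _ (s1 hGx), hr _ (s2 hGx)]
      simp
    have hQ : S.om (emb t z) (act h (emb r x)) = 0 := by
      rw [hrv, emb_smul_left, map_smul, S.om_smul_right, mul_eq_zero]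
      right
      rw [expand hf hF t, emb_add_left, emb_add_left, emb_smul_left, emb_smul_left, emb_smul_left,
        S.om_add_left, S.om_add_left, S.om_smul_left, S.om_smul_left, S.om_smul_left,
        S.om_emb v z, hzp, om_sign hi (s1 hGz) (hh' (sv hGx)) hne',
        om_sign hi (s2 hGz) (hh' (sv hGx)) hne']
      simp
    rw [pairMap_apply, hy, act_mul, act_mul, colT_apply, map_add, act_act_inv, S.om_add_right,
      S.om_emb_emb, hzx', zero_mul, zero_add]
    exact hQ
  obtain ⟨d, hd⟩ := S.exists_rep₂ ((pairMap S y x' z).flip v)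
  refine kron_of_pairing O hε hR hq hyH hx' hz (d := d) (d' := (S.f₂ v v)⁻¹ • v) fun t s => ?_
  rw [← pairMap_apply, hd, LinearMap.flip_apply]
  conv_lhs => rw [expand hf hF s]
  simp [hPe e₁ t1, hPe e₂ t2]
  ring

/-- An element commuting with a non-trivial involution of the stabiliser lies in it. -/
theorem kron_of_comm_invo {h : GL (Fin 4 × Fin 3) F} (hh : h ∈ H) {g : GL (Fin 4) F}
    {k : GL (Fin 3) F} (hi : kr g k ∈ isom S.om)
    (hsq : ∀ w, act (kr g k) (act (kr g k) w) = w) (hne1 : ∃ w, act (kr g k) w ≠ w)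
    (hne2 : ∃ w, act (kr g k) w ≠ -w) (hc : ∀ w, act h (act (kr g k) w) = act (kr g k) (act h w)) :
    h ∈ Cfsg.Geo.kroneckerSubgroup 4 3 F := by
  have hf := S.sym₂ hε
  have h2 := S.two
  set i := kr g k with hidef
  -- squares of the factors
  obtain ⟨v₀, hv₀⟩ := hf.exists_aniso (by omega)
  have hv₀0 : v₀ ≠ 0 := fun h0 => by simp [h0] at hv₀
  set y₀ : Fin 4 → F := fun _ => 1
  have hy₀ : y₀ ≠ 0 := fun h0 => one_ne_zero (congrFun h0 0)
  have hkg : ∀ t y, emb (act k (act k t)) (act g (act g y)) = emb t y := fun t y => by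
    have := hsq (emb t y)
    rwa [act_kr, act_kr] at this
  obtain ⟨c, hc'⟩ : ∃ c : F, c • act g (act g y₀) = y₀ := by
    refine ⟨(S.f₂ v₀ v₀)⁻¹ * S.f₂ v₀ (act k (act k v₀)), ?_⟩
    have h1 := congrArg (S.pi v₀) (hkg v₀ y₀)
    rw [S.pi_emb, S.pi_emb] at h1
    rw [← smul_smul, h1, inv_smul_smul₀ hv₀]
  have hgg0 : act g (act g y₀) ≠ 0 := fun h0 => hy₀ (by rw [← hc', h0, smul_zero])
  have hkk : ∀ t, act k (act k t) = c • t := fun t => emb_right_inj hgg0 (by
    rw [hkg, emb_smul_comm, hc'])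
  have hmat : (k : Matrix (Fin 3) (Fin 3) F) * (k : Matrix (Fin 3) (Fin 3) F) = c • 1 :=
    Matrix.toLin'.injective (LinearMap.ext fun t => by
      simpa [Matrix.toLin'_apply, ← Matrix.mulVec_mulVec, Matrix.smul_mulVec] using hkk t)
  have hc0 : c ≠ 0 := fun h0 => hy₀ (by rw [← hc', h0, zero_smul])
  obtain ⟨γ, hγ0, hγ⟩ : ∃ γ : F, γ ≠ 0 ∧ γ * γ = c := by
    have e := congrArg Matrix.det hmat
    rw [Matrix.det_mul, Matrix.det_smul, Matrix.det_one, Fintype.card_fin, mul_one] at e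
    have hd : (k : Matrix (Fin 3) (Fin 3) F).det ≠ 0 := fun h0 => by
      rw [h0, mul_zero] at e
      exact pow_ne_zero _ hc0 e.symm
    refine ⟨(k : Matrix (Fin 3) (Fin 3) F).det / c, div_ne_zero hd hc0, ?_⟩
    field_simp
    linear_combination e
  set K : (Fin 3 → F) →ₗ[F] (Fin 3 → F) := γ⁻¹ • act k with hKdef
  set G : (Fin 4 → F) →ₗ[F] (Fin 4 → F) := γ • act g with hGdef
  have hKK : ∀ t, K (K t) = t := fun t => by
    simp only [hKdef, LinearMap.smul_apply, map_smul, smul_smul, hkk, ← hγ]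
    rw [show γ⁻¹ * (γ⁻¹ * (γ * γ)) = 1 by field_simp, one_smul]
  have hact : ∀ t y, act i (emb t y) = emb (K t) (G y) := fun t y => by
    rw [hidef, act_kr, hKdef, hGdef, LinearMap.smul_apply, LinearMap.smul_apply, emb_smul_left,
      map_smul, inv_smul_smul₀ hγ0]
  clear_value K G
  have hGG : ∀ y, G (G y) = y := fun y => emb_injective hv₀0 (by
    have := hsq (emb v₀ y)
    rwa [hact, hact, hKK] at this)
  have hom : ∀ t s y y', S.f₁ (G y) (G y') * S.f₂ (K t) (K s) = S.f₁ y y' * S.f₂ t s :=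
    fun t s y y' => by rw [← S.om_emb_emb, ← hact, ← hact, S.om_act hi, S.om_emb_emb]
  obtain ⟨y₁, hy₁, -⟩ := exists_both S.nd₁ hy₀ hy₀
  set μ := S.f₁ (G y₀) (G y₁) / S.f₁ y₀ y₁ with hμ
  have hKμ : ∀ t s, μ * S.f₂ (K t) (K s) = S.f₂ t s := fun t s => by
    rw [hμ, div_mul_eq_mul_div, hom, mul_div_assoc, mul_div_cancel₀ _ hy₁]
  have hμ2 : μ * μ = 1 := by
    have h1 := hKμ (K v₀) (K v₀)
    rw [hKK] at h1
    have h3 := hKμ v₀ v₀
    exact mul_right_cancel₀ hv₀ (by rw [mul_assoc, h1, h3, one_mul])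
  rcases mul_self_eq_one_iff.1 hμ2 with hμ1 | hμ1
  swap
  · -- an anti-isometric involution would give an alternating form on `F³`
    exfalso
    let B : LinearMap.BilinForm F (Fin 3 → F) := S.f₂.compl₂ K
    have hB : ∀ t, B t t = 0 := fun t => by
      have h1 := hKμ t (K t)
      rw [hμ1, hKK, hf.symm t (K t)] at h1
      show S.f₂ t (K t) = 0
      exact (mul_eq_zero.1 (show (2 : F) * S.f₂ t (K t) = 0 by
        linear_combination -h1)).resolve_left h2
    have := ClMax99.AltSim.even_finrank B hB ⊤ fun t _ ht => S.nd₂ t fun s => by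
      rw [← hKK s]; exact ht (K s) trivial
    rw [finrank_top, finrank_fin_fun] at this
    exact absurd this (by decide)
  have hKf : ∀ t s, S.f₂ (K t) (K s) = S.f₂ t s := fun t s => by
    simpa [hμ1] using hKμ t s
  have hGf : ∀ y y', S.f₁ (G y) (G y') = S.f₁ y y' := fun y y' =>
    mul_right_cancel₀ hv₀ (by have := hom v₀ v₀ y y'; rwa [hKf] at this)
  obtain ⟨e, s, -, he, hs, hs', -, -, -⟩ := hf.exists_eigen_basis (fam_nil S.f₂) (by omega)
    K hKf hKK ![] (fun i => i.elim0) (fun i => i.elim0)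
  by_cases hKs : ∃ τ : F, τ * τ = 1 ∧ ∀ j, s j = τ
  · -- an involution of the symplectic factor
    obtain ⟨τ, hτ, hτs⟩ := hKs
    have hK : ∀ t, K t = τ • t := fun t =>
      hf.eigen_of_perp he hKf hKK hs fun j hj => absurd (hτs j) hj
    have hact' : ∀ t y, act i (emb t y) = emb t (τ • G y) := fun t y => by
      rw [hact, hK, emb_smul_comm]
    obtain ⟨x, hx⟩ : ∃ x, x + τ • G x ≠ 0 := by
      by_contra hn
      push Not at hn
      obtain ⟨w, hw⟩ := hne2
      refine hw (ext_emb (f := act i) (g := -LinearMap.id) (fun t y => ?_) w)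
      rw [hact', eq_neg_of_add_eq_zero_right (hn y), LinearMap.neg_apply, LinearMap.id_apply,
        map_neg]
    obtain ⟨z, hz⟩ : ∃ z, z - τ • G z ≠ 0 := by
      by_contra hn
      push Not at hn
      obtain ⟨w, hw⟩ := hne1
      refine hw (ext_emb (f := act i) (g := LinearMap.id) (fun t y => ?_) w)
      rw [hact', ← sub_eq_zero.1 (hn y), LinearMap.id_apply]
    refine kron_of_pairing O hε hR hq hh hx hz (d := 0) (d' := 0) fun t s => ?_
    rw [map_zero, LinearMap.zero_apply, zero_mul]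
    refine om_sign hi (σ := -1) (τ := 1) ?_ ?_ (fun h0 => h2 (by linear_combination -h0))
    · rw [hact', neg_one_smul, ← map_neg]
      congr 1
      rw [map_sub, map_smul, hGG, smul_sub, smul_smul, hτ, one_smul]
      abel
    · rw [← hc, one_smul]
      congr 1
      rw [hact', map_add G, map_smul G, hGG, smul_add, smul_smul, hτ, one_smul, add_comm]
  push Not at hKs
  -- two equal signs and one opposite
  obtain ⟨j₀, hj₀⟩ : ∃ j₀, ∀ j, j ≠ j₀ → s j = -s j₀ := by
    have hcase : ∀ j j', s j ≠ s j' → s j = -s j' := fun j j' hne =>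
      (mul_self_eq_mul_self_iff.1 ((hs' j).trans (hs' j').symm)).resolve_left hne
    obtain ⟨j, hj⟩ := hKs (s 0) (hs' 0)
    by_cases h1 : s 1 = s 0
    · refine ⟨2, fun j' hj' => ?_⟩
      have h2' : s 2 ≠ s 0 := by
        fin_cases j
        · exact absurd rfl hj
        · exact absurd h1 hj
        · exact hj
      refine hcase _ _ ?_
      fin_cases j'
      · exact Ne.symm h2'
      · exact fun h => h2' (h.symm.trans h1)
      · exact absurd rfl hj'
    by_cases h2' : s 2 = s 0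
    · refine ⟨1, fun j' hj' => hcase _ _ ?_⟩
      fin_cases j'
      · exact Ne.symm h1
      · exact absurd rfl hj'
      · exact fun h => h1 (h.symm.trans h2')
    refine ⟨0, fun j' hj' => hcase _ _ ?_⟩
    fin_cases j'
    · exact absurd rfl hj'
    · exact h1
    · exact h2'
  obtain ⟨v, hvdef⟩ : ∃ v, v = e j₀ := ⟨_, rfl⟩
  have hv : S.f₂ v v ≠ 0 := hvdef ▸ he.aniso j₀
  set τ := s j₀
  have hKv : K v = τ • v := by rw [hvdef, hs]
  have hτ : τ * τ = 1 := hs' j₀
  have hKperp : ∀ t, S.f₂ v t = 0 → K t = -(τ • t) := fun t ht => by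
    rw [← neg_smul]
    refine hf.eigen_of_perp he hKf hKK hs fun j hj => ?_
    rcases eq_or_ne j j₀ with rfl | hne
    · rw [← hvdef]; exact ht
    · exact absurd (hj₀ j hne) hj
  obtain ⟨e₁, e₂, hF⟩ := exists_frame hf hv
  have he₁ : S.f₂ v e₁ = 0 := hF.orth 0 1 (by decide)
  have he₂ : S.f₂ v e₂ = 0 := hF.orth 0 2 (by decide)
  set G' : (Fin 4 → F) →ₗ[F] (Fin 4 → F) := τ • G with hG'
  have hiv : ∀ y, act i (emb v y) = emb v (G' y) := fun y => by
    rw [hact, hKv, hG', LinearMap.smul_apply, emb_smul_comm]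
  have hiperp : ∀ t y, S.f₂ v t = 0 → act i (emb t y) = -emb t (G' y) := fun t y ht => by
    rw [hact, hKperp t ht, hG', LinearMap.smul_apply, emb_neg_left, emb_smul_comm]
  clear_value G'
  by_cases hGs : ∃ σ : F, σ * σ = 1 ∧ ∀ y, G' y = σ • y
  · -- a half-turn of the orthogonal factor
    obtain ⟨σ, hσ, hGσ⟩ := hGs
    refine kron_of_line O hε hR hq hh hv (fun h0 => by simp [h0] at hv : v ≠ 0) fun x => ?_
    set A := act h (emb v x) with hA
    have hiA : act i A = σ • A := by rw [hA, ← hc, hiv, hGσ, map_smul, map_smul]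
    refine ⟨(S.f₂ v v)⁻¹ • S.pi v A, ?_⟩
    have key : ∀ w, act i w + σ • w = (2 * σ / S.f₂ v v) • emb v (S.pi v w) := fun w => by
      refine ext_emb (f := act i + σ • LinearMap.id) (g := (2 * σ / S.f₂ v v) • (emb v ∘ₗ S.pi v))
        (fun t y => ?_) w
      simp only [LinearMap.add_apply, LinearMap.smul_apply, LinearMap.id_apply,
        LinearMap.comp_apply, S.pi_emb]
      conv_lhs => rw [expand hf hF t, emb_add_left, emb_add_left, emb_smul_left, emb_smul_left,
        emb_smul_left, map_add, map_add, map_smul, map_smul, map_smul, hiv, hiperp _ _ he₁,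
        hiperp _ _ he₂, hGσ, map_smul, map_smul, map_smul]
      rw [map_smul]
      match_scalars <;> field_simp [hv] <;> ring
    have hk := key A
    rw [hiA, ← add_smul, ← two_mul] at hk
    have h2σ : 2 * σ ≠ 0 := mul_ne_zero h2 fun h0 => by simp [h0] at hσ
    show act h (emb v x) = _
    rw [← hA, map_smul]
    refine smul_right_injective _ h2σ (hk.trans ?_)
    simp only [smul_smul, div_eq_mul_inv]
  push Not at hGs
  obtain ⟨y, hy⟩ := hGs (-1) (by ring)
  obtain ⟨y', hy'⟩ := hGs 1 (one_mul 1)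
  have hG'G : ∀ y, G' (G' y) = y := fun y => by
    rw [hG', LinearMap.smul_apply, LinearMap.smul_apply, map_smul, hGG, smul_smul, hτ, one_smul]
  have hG'f : ∀ y y', S.f₁ (G' y) (G' y') = S.f₁ y y' := fun y y' => by
    simp only [hG', LinearMap.smul_apply, map_smul, smul_eq_mul, hGf]
    rw [← mul_assoc, hτ, one_mul]
  refine kron_of_comm_mixed O hε hR hq hh hi hc G' hG'G hG'f (x := y + G' y) (x' := y' - G' y')
    (fun h0 => hy (by rw [neg_one_smul]; exact eq_neg_of_add_eq_zero_right h0))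
    (by rw [map_add, hG'G, add_comm])
    (fun h0 => hy' (by rw [one_smul]; exact (sub_eq_zero.1 h0).symm))
    (by rw [map_sub, hG'G, neg_sub]) hF hiv (fun y => hiperp _ _ he₁) (fun y => hiperp _ _ he₂)

end Cfsg.Agent.SpGeo11.Tensor
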