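import Cfsg.Agent.TensorInv.Engine

/-!
Tools for a tensor stabiliser `Sp ⊗ O` with small factors: transvections of the symplectic factor,
their conjugates, and rank one pairings of columns (helper11).
-/

set_option autoImplicit false
set_option linter.unusedSectionVars false
set_option linter.unusedSimpArgs false

namespace Cfsg.Agent.SpGeo11.Tensor

open Matrix Cfsg.Agent.MaxSub Cfsg.Agent.TensorMax Cfsg.Agent.TensorInv Module

variable {F : Type*} [Field F] {a b : ℕ}

/-- A product fixing a column pointwise and moving a small space is trivial. -/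
theorem eq_one_of_column {g : GL (Fin a) F} {k : GL (Fin b) F} {a₀ : Fin a → F} (ha₀ : a₀ ≠ 0)
    (S : TForm F a b) (hfix : ∀ s, act (kr g k) (emb s a₀) = emb s a₀)
    (W : Submodule F (V F a b)) (hW : finrank F W < b)
    (hrange : ∀ z, act (kr g k) z - z ∈ W) (z : V F a b) : act (kr g k) z = z := by
  refine ext_emb (f := act (kr g k)) (g := LinearMap.id) (fun s y => ?_) z
  rw [LinearMap.id_apply]
  rcases Nat.eq_zero_or_pos b with hb | hb
  · omega
  set j : Fin b → F := Pi.single ⟨0, hb⟩ 1
  have hj : j ≠ 0 := by simp [j]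
  obtain ⟨d, hd⟩ : ∃ d, S.f₂ d j ≠ 0 := by
    by_contra hn
    push Not at hn
    exact hj (S.nd₂' hn)
  have h1 := congrArg (S.pi d) (hfix j)
  rw [act_kr, S.pi_emb, S.pi_emb] at h1
  obtain ⟨c, hc⟩ : ∃ c : F, c • act g a₀ = a₀ :=
    ⟨(S.f₂ d j)⁻¹ * S.f₂ d (act k j), by rw [← smul_smul, h1, inv_smul_smul₀ hd]⟩
  have hga : act g a₀ ≠ 0 := fun h0 => ha₀ (by rw [← hc, h0, smul_zero])
  have hk : ∀ t, act k t = c • t := fun t => by
    refine emb_right_inj hga ?_
    have := hfix t
    rw [act_kr] at this
    rw [this, emb_smul_comm, hc]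
  have hG : ∀ t x, act (kr g k) (emb t x) = emb t (c • act g x) := fun t x => by
    rw [act_kr, hk, emb_smul_comm]
  rw [hG]
  by_contra hne
  have hy : c • act g y - y ≠ 0 := fun h0 => hne (by rw [sub_eq_zero.1 h0])
  have hle : LinearMap.range (embR (b := b) (c • act g y - y)) ≤ W := by
    rintro _ ⟨t, rfl⟩
    show emb t _ ∈ W
    rw [map_sub, ← hG]
    exact hrange _
  have hi : Function.Injective (embR (b := b) (c • act g y - y)) := fun t t' h => emb_right_inj hy h
  have := Submodule.finrank_mono hle
  rw [LinearMap.finrank_range_of_inj hi, finrank_fin_fun] at this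
  omega

theorem finrank_pair_le (u l : V F a b) : finrank F (Submodule.span F (Set.range ![u, l])) ≤ 2 :=
  (finrank_range_le_card ![u, l]).trans_eq (Fintype.card_fin 2)

/-- The coefficient of a vector in the column of `x`. -/
def rho (S : TForm F a b) (x : Fin a → F) : V F a b →ₗ[F] (Fin b → F) :=
  LinearMap.pi fun j => S.f₁ x ∘ₗ col j

theorem rho_emb (S : TForm F a b) (x y : Fin a → F) (w : Fin b → F) :
    rho S x (emb w y) = S.f₁ x y • w := funext fun j => by
  show S.f₁ x (col j (emb w y)) = _
  rw [show col j (emb w y) = w j • y from funext fun i => mul_comm _ _, map_smul]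
  simp [mul_comm]

theorem om_emb_rho (S : TForm F a b) (t : Fin b → F) (x : Fin a → F) (z : V F a b) :
    S.om (emb t x) z = S.f₂ t (rho S x z) := by
  rw [eq_sum_emb z, ← rmap_apply S.om_bilinear, map_sum, map_sum, map_sum]
  refine Finset.sum_congr rfl fun j _ => ?_
  rw [rmap_apply, rho_emb, S.om_emb_emb, map_smul, smul_eq_mul]

variable {S : TForm F a b} {H : Subgroup (GL (Fin a × Fin b) F)}

/-- The transvection group element of a column. -/
noncomputable abbrev colT (S : TForm F a b) (hε : S.ε = -1) (x : Fin a → F) :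
    GL (Fin a × Fin b) F :=
  kr (trans S.f₁ (S.alt₁ hε) x 1) 1

theorem colT_apply (hε : S.ε = -1) (x : Fin a → F) (z : V F a b) :
    act (colT S hε x) z = z + emb (rho S x z) x := by
  refine ext_emb (f := act (colT S hε x))
    (g := LinearMap.id + (embR x) ∘ₗ rho S x) (fun w y => ?_) z
  rw [act_kr, act_one, trans_apply, one_mul]
  simp only [LinearMap.add_apply, LinearMap.id_apply, LinearMap.comp_apply, rho_emb]
  show _ = _ + emb (S.f₁ x y • w) x
  rw [map_add, map_smul, emb_smul_left]

theorem colT_mem (O : Over S H) (hε : S.ε = -1) (x : Fin a → F) : colT S hε x ∈ H :=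
  O.left (trans_form (S.alt₁ hε) (S.skew₁ hε) x 1)

end Cfsg.Agent.SpGeo11.Tensor
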